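import Mathlib

set_option autoImplicit false

/-!
# Letters and words for the McLaughlin group multiplier (helper6, S2047)

Eight letters `0 … 7` for four marked elements `ga gb gc gd` of a group and their inverses.  `modelL` lists the
words of the certificates (stage 1 and stage 2 of `Lib/H6/U43M`, stage 3 of `Lib/H6/McLM`) with their values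
`z ^ j` in the triple cover.
-/

namespace Cfsg.Agent.Lib.H6.McLM

section

variable {Γ : Type*} [Group Γ] (ga gb gc gd : Γ)

/-- the letters -/
def gl (x : ℕ) : Γ :=
  match x with
  | 0 => ga | 1 => ga⁻¹ | 2 => gb | 3 => gb⁻¹ | 4 => gc | 5 => gc⁻¹ | 6 => gd | 7 => gd⁻¹ | _ => 1

/-- the value of a word -/
def wv (w : List ℕ) : Γ := (w.map (gl ga gb gc gd)).prod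

end

/-- the words of the three certificates with the exponent of their value in the triple cover -/
def modelL : List (List ℕ × ℕ) := [([4, 4, 4, 4, 4], 0), ([0, 2, 5, 3, 0, 4, 2, 1, 4, 0, 3, 5, 1, 2, 4, 3, 1, 4], 0), ([1, 1, 1, 1, 1, 1, 1], 0), ([3, 3, 3, 3, 3, 3, 3], 0), ([1, 3, 1, 2, 1, 2, 0, 3, 1, 2], 0), ([1, 1, 1, 3, 1, 1, 2, 2, 0, 0, 3, 3], 0), ([1, 1, 3, 1, 1, 3, 1, 1, 3, 1, 1, 3], 0), ([1, 1, 3, 3, 1, 1, 3, 3, 1, 1, 3, 3], 0), ([1, 1, 3, 0, 3, 0, 2, 2, 0, 3, 1, 2], 0), ([1, 3, 1, 3, 1, 3, 1, 3, 1, 3, 1, 3], 0), ([1, 3, 0, 3, 1, 3, 0, 3, 1, 3, 0, 3], 0), ([1, 1, 1, 1, 2, 2, 1, 1, 3, 3, 0, 0, 2], 0), ([1, 1, 3, 1, 2, 0, 2, 1, 1, 2, 2, 0, 3], 0), ([1, 1, 2, 1, 3, 0,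 2, 2, 0, 2, 2, 1, 2], 0), ([1, 1, 2, 1, 2, 1, 3, 0, 2, 1, 2, 2, 2], 0), ([0, 0, 0, 0, 0, 0, 0], 0), ([2, 2, 2, 2, 2, 2, 2], 0), ([2, 0, 3, 1, 3, 3, 0, 2, 2, 0, 2, 1, 3, 1, 1], 0), ([0, 3, 0, 3, 3, 0, 2, 1, 2, 2, 1, 2, 1, 3, 3], 0), ([1, 3, 3, 3, 1, 3, 0, 2, 1, 2, 0, 2, 2, 2], 0), ([3, 5, 3, 5, 3, 5], 0), ([1, 5, 1, 5, 1, 5, 1, 5, 1, 5], 1), ([3, 4, 3, 4, 3, 4, 3, 4, 3, 4], 2), ([1, 1, 5, 1, 1, 5, 1, 1, 5, 1, 1, 5], 1), ([1, 3, 0, 5, 0, 5, 5, 3, 0, 4, 0, 4], 2), ([1, 3, 5, 1, 2, 0, 5, 3, 5, 0, 2, 4], 2), ([1, 3, 4, 1, 2, 2, 1, 3, 4, 1, 2, 2], 1), ([1, 1, 1, 5, 1, 3, 3, 3, 1, 2, 2, 5, 2], 0), ([1, 1, 5, 3, 5, 0, 3, 3, 1, 5, 2, 1, 2], 1), ([1, 1, 1, 4, 0, 2, 4, 3, 0, 2, 4, 3,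 3], 0), ([1, 1, 1, 4, 2, 0, 2, 1, 1, 4, 3, 5, 3], 1), ([1, 1, 2, 4, 2, 0, 3, 3, 1, 5, 2, 1, 2], 1), ([6, 6, 6, 6, 6, 6, 6, 6, 6, 6, 6], 0), ([3, 1, 1, 3, 1, 3, 1, 4, 4, 3, 4, 6, 5, 2, 5, 5, 0, 2, 0, 2, 0, 0, 2, 7, 7, 7], 0), ([5, 5, 5, 5, 5], 0), ([3, 5, 3, 5, 3, 4, 4, 4, 4], 0), ([3, 3, 3, 3, 3, 3, 4, 2, 4, 2, 4], 0), ([1, 1, 1, 2, 0, 5, 0, 4, 1, 5, 1, 4, 4], 0), ([1, 1, 1, 4, 2, 0, 2, 1, 1, 4, 4, 2, 4], 1), ([1, 1, 2, 2, 2, 5, 5, 0, 5, 2, 1, 1, 4], 1), ([1, 3, 3, 1, 4, 4, 3, 1, 5, 3, 0, 5, 3], 1), ([1, 1, 1, 1, 3, 4, 3, 3, 0, 2, 2, 2, 0, 4], 0), ([1, 1, 1, 1, 5, 3, 5, 5, 0, 0, 3, 1, 3, 5], 2), ([1, 1, 1, 1, 5, 5, 0, 4, 0, 5, 1, 4, 1, 3], 0), ([1, 1, 1, 1, 2, 4, 2, 5, 0,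 0, 3, 1, 3, 5], 2), ([1, 1, 3, 3, 1, 5, 2, 1, 5, 1, 2, 5, 2, 5], 0), ([1, 1, 3, 5, 2, 4, 1, 3, 0, 5, 3, 3, 4, 2], 1), ([1, 1, 3, 0, 3, 1, 3, 0, 3, 3, 1, 2, 1, 3], 0), ([1, 1, 3, 0, 5, 2, 2, 0, 5, 3, 4, 4, 3, 4], 2), ([1, 1, 3, 4, 4, 2, 4, 1, 1, 2, 2, 5, 3, 4], 0), ([1, 1, 5, 5, 1, 5, 3, 0, 5, 2, 5, 3, 3, 5], 2), ([1, 1, 5, 2, 5, 2, 4, 4, 2, 2, 5, 1, 3, 5], 0), ([1, 1, 2, 1, 3, 1, 2, 1, 1, 2, 1, 2, 0, 3], 0), ([1, 1, 2, 1, 3, 3, 1, 3, 1, 1, 2, 0, 3, 3], 0), ([1, 1, 2, 1, 3, 3, 3, 0, 3, 3, 3, 1, 2, 2], 0), ([1, 1, 2, 1, 2, 1, 3, 0, 2, 1, 3, 3, 3, 3], 0), ([1, 1, 2, 0, 3, 0, 3, 3, 1, 3, 1, 2, 2, 2], 0), ([1, 1, 2, 2, 0, 5, 1, 3, 4, 2, 1, 2, 5, 5], 2), ([1, 1, 2, 4, 1, 5, 3, 3,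 4, 4, 3, 3, 3, 3], 2), ([1, 1, 2, 4, 1, 5, 2, 5, 1, 4, 3, 1, 5, 5], 2), ([1, 1, 4, 1, 5, 3, 0, 2, 1, 1, 4, 3, 0, 4], 0), ([1, 1, 4, 3, 4, 3, 5, 1, 3, 0, 4, 3, 0, 3], 2), ([1, 3, 1, 5, 1, 3, 5, 2, 0, 2, 4, 0, 3, 4], 1), ([1, 3, 3, 3, 1, 3, 3, 0, 3, 1, 3, 0, 2, 2], 0), ([1, 3, 3, 5, 3, 0, 3, 5, 1, 4, 2, 5, 1, 5], 2), ([1, 3, 3, 4, 3, 0, 3, 1, 3, 3, 4, 3, 0, 3], 0), ([1, 3, 3, 4, 0, 5, 5, 2, 2, 0, 5, 2, 1, 2], 2), ([1, 3, 5, 3, 1, 3, 0, 3, 5, 3, 5, 0, 5, 3], 1), ([1, 3, 5, 3, 5, 3, 1, 4, 1, 4, 1, 4, 1, 4], 0), ([1, 3, 4, 1, 4, 1, 4, 1, 5, 3, 0, 4, 0, 4], 2), ([1, 3, 4, 3, 0, 3, 5, 3, 1, 3, 4, 4, 3, 4], 2), ([1, 3, 4, 3, 0, 4, 2, 4, 1, 3, 4, 4, 3, 4], 2), ([1, 5, 1, 5, 1, 5, 1,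 5, 1, 2, 4, 2, 4, 2], 1), ([1, 5, 1, 2, 5, 2, 2, 1, 4, 3, 4, 0, 3, 3], 0), ([1, 5, 3, 5, 3, 3, 3, 5, 1, 2, 4, 3, 3, 5], 0), ([1, 5, 0, 3, 3, 0, 4, 1, 4, 3, 5, 1, 4, 4], 0), ([1, 5, 2, 1, 4, 4, 2, 1, 5, 2, 1, 4, 4, 2], 1), ([1, 2, 4, 3, 3, 5, 1, 2, 4, 3, 4, 2, 4, 2], 0), ([3, 3, 3, 3, 3, 3, 4, 2, 5, 5, 5, 5, 2, 4], 0), ([7, 0, 0, 4, 3, 0, 5, 6, 4, 3, 5, 0, 5, 2, 2, 0], 0), ([7, 1, 1, 5, 1, 3, 5, 5, 6, 1, 1, 2, 1, 5, 5, 2], 0), ([7, 2, 0, 3, 3, 0, 3, 0, 6, 0, 3, 3, 1, 3, 1, 5, 1], 2), ([7, 2, 1, 2, 4, 0, 5, 0, 6, 2, 5, 3, 4, 2, 5, 2, 2], 1), ([7, 2, 1, 3, 0, 4, 2, 1, 6, 3, 3, 3, 4, 1, 4, 2], 1), ([7, 2, 4, 3, 0, 4, 4, 1, 6, 5, 0, 0, 3, 5, 3], 0), ([7, 2, 5, 1, 3, 4, 4, 0, 6,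 4, 3, 0, 5, 5, 2, 2], 1), ([7, 3, 4, 1, 3, 1, 5, 5, 6, 3, 5, 2, 1, 4, 3, 5], 2), ([7, 4, 2, 5, 2, 1, 2, 0, 6, 4, 0, 0, 2, 0, 0, 5, 5], 0), ([7, 4, 3, 3, 5, 5, 2, 5, 6, 0, 0, 0, 2, 1, 2, 1], 2), ([7, 4, 3, 4, 4, 2, 2, 5, 6, 0, 3, 0, 3, 1, 1, 1], 1), ([7, 4, 4, 0, 2, 0, 5, 2, 6, 4, 2, 5, 0, 3, 4, 2], 1), ([7, 4, 4, 0, 2, 1, 5, 3, 6, 5, 1, 2, 5, 1, 4, 2, 0], 2), ([7, 4, 4, 2, 0, 4, 0, 0, 6, 3, 4, 4, 0, 3, 0, 0], 0), ([7, 5, 0, 4, 1, 5, 3, 0, 6, 0, 4, 3, 1, 2, 4, 4, 0], 1), ([7, 5, 1, 2, 1, 2, 5, 2, 6, 0, 5, 0, 5, 2, 2, 5, 1], 1), ([7, 5, 1, 5, 3, 1, 2, 4, 6, 5, 0, 2, 1, 5, 5, 0], 1), ([7, 5, 5, 0, 3, 0, 4, 4, 6, 0, 4, 3, 3, 0, 2, 1], 1), ([7, 0, 2, 1, 3, 3, 3, 5, 0, 6, 4, 2,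 1, 2, 2, 1], 2), ([7, 2, 0, 3, 4, 2, 2, 1, 5, 6, 3, 0, 0, 2, 0, 3], 1), ([7, 2, 2, 2, 5, 0, 3, 5, 1, 6, 1, 4, 4, 1, 2, 4, 0], 2), ([7, 3, 4, 1, 1, 5, 1, 4, 4, 6, 1, 4, 1, 2, 1, 2, 0], 0), ([7, 4, 0, 0, 0, 4, 0, 0, 5, 6, 5, 2, 5, 5, 3, 4, 4], 2), ([7, 4, 0, 0, 3, 5, 1, 4, 1, 6, 2, 4, 3, 0, 5, 2, 2], 1), ([7, 4, 0, 3, 3, 5, 2, 1, 3, 6, 2, 1, 3, 1, 1, 2], 2), ([7, 4, 3, 4, 3, 1, 1, 3, 4, 6, 0, 4, 0, 4, 1, 5, 3], 2), ([7, 5, 2, 0, 0, 2, 5, 2, 5, 6, 2, 4, 0, 5, 1, 5, 1], 1), ([7, 5, 5, 2, 5, 5, 1, 5, 2, 6, 4, 1, 5, 0, 3, 4], 2), ([0, 3, 4, 3, 7, 3, 0, 5, 3, 6, 6, 4, 2, 4], 1), ([0, 0, 4, 3, 4, 6, 6, 6, 2, 7, 7, 2, 5], 1), ([0, 2, 2, 1, 4, 1, 6, 3, 1, 6, 5, 3, 3], 2), ([0, 3, 3,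 4, 2, 1, 6, 1, 5, 5, 3, 7, 1, 3], 0), ([0, 6, 0, 6, 0, 6, 0, 6, 0, 6], 2)]

end Cfsg.Agent.Lib.H6.McLM
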