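import Cfsg.Agent.Lib.H6.McLM.GSide
import Cfsg.Agent.Lib.H27.McLOut
import Cfsg.Agent.Lib.H18.SchurTransport

set_option autoImplicit false
set_option maxRecDepth 100000

/-!
# The multiplier of the McLaughlin group from a faithful permutation representation on 275 points (helper6, S2047)

Given permutation data `pd` on 275 points whose first four letters are the first four letters of the table `GT4`, and an
isomorphism of helper27's group `MC` with the group generated by these letters, the Schur multiplier of the McLaughlin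
group of the Prelude is cyclic of order `3` (given the model of the triple cover).
-/

namespace Cfsg.Agent.Lib.H6.McLM

open Equiv Cfsg.Agent.Lib.H27.LatW Cfsg.Agent.Lib.H27.PermN

section link

variable {L : ℕ} (pd : PD 275 L 4) (hL : 4 ≤ L)
  (hlk : allLt 4 (fun d => allLt 275 fun p => Nat.beq (lk GT4 d p) (lk pd.GT d p)) = true)

include hL hlk in
theorem pd2_bp_eq {d : ℕ} (hd : d < 4) : pd2.bp d = pd.bp d := by
  ext p
  rw [pd2.bp_apply (by omega : d < 14), pd.bp_apply (by omega : d < L)]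
  exact Nat.eq_of_beq_eq_true (allLt_spec (allLt_spec hlk d hd) p p.2)

include hL hlk in
theorem pd2_G_eq : pd2.G = pd.G := by
  unfold PD.G
  congr 1
  ext σ
  constructor
  · rintro ⟨d, hd, rfl⟩
    exact ⟨d, hd, pd2_bp_eq pd hL hlk hd⟩
  · rintro ⟨d, hd, rfl⟩
    exact ⟨d, hd, (pd2_bp_eq pd hL hlk hd).symm⟩

include hL hlk in
/-- the multiplier of the McLaughlin group -/
theorem multiplier_McL (e : ↥Cfsg.Agent.Lib.H27.McLOut.MC ≃* ↥pd.G)
    (hM : ∃ (M : Type) (_ : Group M) (ga gb gc gd z : M), z ≠ 1 ∧ z ^ 3 = 1 ∧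
      ga * z = z * ga ∧ gb * z = z * gb ∧ gc * z = z * gc ∧ gd * z = z * gd ∧
      ∀ p ∈ modelL, wv ga gb gc gd p.1 = z ^ p.2) :
    Cfsg.HasCyclicSchurMultiplier ↥Cfsg.Spor.McL 3 := by
  have e2 : ↥pd2.G ≃* ↥pd.G := MulEquiv.subgroupCongr (pd2_G_eq pd hL hlk)
  have hcard : Nat.card ↥pd2.G = 898128000 := by
    rw [Nat.card_congr (e2.trans e.symm).toEquiv]
    exact Cfsg.Agent.Lib.H27.McLOut.card_MC
  have B := base4_G hcard
  have hfin : Finite ↥pd2.G := B.finite
  have hmult : Cfsg.HasCyclicSchurMultiplier ↥pd2.G 3 :=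
    B.main (Cfsg.Agent.Lib.H2.McLM.baseH B) hM
  exact Cfsg.Agent.Lib.H18.SchurTransport.hasSchurMultiplier_of_group_mulEquiv
    ((e2.trans e.symm).trans Cfsg.Agent.Lib.H27.McLOut.mcEquiv) hmult

end link

end Cfsg.Agent.Lib.H6.McLM
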