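import Cfsg.Agent.Lib.H6.McLM.Words

set_option autoImplicit false
set_option maxRecDepth 100000

/-!
# The presented group for the triple cover of the McLaughlin group (helper6, S2047)

`P4`: four generators; every word `w` of `modelL` has the value `z ^ j` with `z` the value of the word `yW`, and `z`
commutes with the generators.
-/

namespace Cfsg.Agent.Lib.H6.McLM

open FreeGroup

/-- the word in the free group -/
def wF4 (w : List ℕ) : FreeGroup (Fin 4) := wv (of 0) (of 1) (of 2) (of 3) w

/-- the relators: the words of `modelL` with their values, and the commutators of `z` with the generators -/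
def rels4 : Set (FreeGroup (Fin 4)) :=
  {r | (∃ p ∈ modelL, r = wF4 p.1 * ((wF4 U43M.yW) ^ p.2)⁻¹) ∨
    (∃ i : Fin 4, r = wF4 U43M.yW * of i * (wF4 U43M.yW)⁻¹ * (of i)⁻¹)}

/-- the presented group -/
abbrev P4 : Type := PresentedGroup rels4

/-- the generators of `P4` -/
def qa : P4 := PresentedGroup.of 0
/-- the generators of `P4` -/
def qb : P4 := PresentedGroup.of 1
/-- the generators of `P4` -/
def qc : P4 := PresentedGroup.of 2
/-- the generators of `P4` -/
def qd : P4 := PresentedGroup.of 3

/-- the central element -/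
def zP : P4 := wv qa qb qc qd U43M.yW

theorem mk_wF4 (w : List ℕ) : PresentedGroup.mk rels4 (wF4 w) = wv qa qb qc qd w := by
  unfold wF4
  rw [map_wv]
  rfl

theorem lift_wF4 {K : Type*} [Group K] (f : Fin 4 → K) (w : List ℕ) :
    FreeGroup.lift f (wF4 w) = wv (f 0) (f 1) (f 2) (f 3) w := by
  unfold wF4
  rw [map_wv]
  simp only [FreeGroup.lift_apply_of]

theorem P4_val : ∀ p ∈ modelL, wv qa qb qc qd p.1 = zP ^ p.2 := by
  intro p hp
  have : PresentedGroup.mk rels4 (wF4 p.1 * ((wF4 U43M.yW) ^ p.2)⁻¹) = 1 :=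
    PresentedGroup.one_of_mem (Or.inl ⟨p, hp, rfl⟩)
  rw [_root_.map_mul, _root_.map_inv, _root_.map_pow, mk_wF4, mk_wF4, mul_inv_eq_one] at this
  exact this

theorem P4_comm : ∀ i : Fin 4, zP * (PresentedGroup.of i : P4) = PresentedGroup.of i * zP := by
  intro i
  have : PresentedGroup.mk rels4 (wF4 U43M.yW * of i * (wF4 U43M.yW)⁻¹ * (of i)⁻¹) = 1 :=
    PresentedGroup.one_of_mem (Or.inr ⟨i, rfl⟩)
  rw [_root_.map_mul, _root_.map_mul, _root_.map_mul, _root_.map_inv, _root_.map_inv, mk_wF4] at this
  have h2 : zP * PresentedGroup.mk rels4 (of i) = PresentedGroup.mk rels4 (of i) * zP := by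
    rw [mul_inv_eq_one, mul_inv_eq_iff_eq_mul] at this
    exact this
  exact h2

theorem P4_gen : Subgroup.closure {qa, qb, qc, qd} = (⊤ : Subgroup P4) := by
  have h := PresentedGroup.closure_range_of rels4
  rw [eq_top_iff, ← h, Subgroup.closure_le]
  rintro _ ⟨i, rfl⟩
  apply Subgroup.subset_closure
  fin_cases i
  · left; rfl
  · right; left; rfl
  · right; right; left; rfl
  · right; right; right; rfl

/-- `z` is central in `P4` -/
theorem P4_central : zP ∈ Subgroup.center P4 := by
  have hcen : Subgroup.centralizer {zP} = ⊤ := by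
    rw [eq_top_iff, ← P4_gen, Subgroup.closure_le]
    intro g hg
    have key : ∀ i : Fin 4, (PresentedGroup.of i : P4) ∈ Subgroup.centralizer {zP} := by
      intro i
      rw [Subgroup.mem_centralizer_iff]
      intro h hh
      rw [Set.mem_singleton_iff] at hh
      subst hh
      exact P4_comm i
    simp only [Set.mem_insert_iff, Set.mem_singleton_iff] at hg
    rcases hg with rfl | rfl | rfl | rfl
    · exact key 0
    · exact key 1
    · exact key 2
    · exact key 3
  rw [Subgroup.mem_center_iff]
  intro g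
  have hg : g ∈ Subgroup.centralizer {zP} := by rw [hcen]; trivial
  rw [Subgroup.mem_centralizer_iff] at hg
  exact (hg _ rfl).symm

/-- a homomorphism from `P4` -/
def homP4 {K : Type*} [Group K] (x y z t : K)
    (hval : ∀ p ∈ modelL, wv x y z t p.1 = (wv x y z t U43M.yW) ^ p.2)
    (hcen : ∀ i : Fin 4, wv x y z t U43M.yW * ![x, y, z, t] i = ![x, y, z, t] i * wv x y z t U43M.yW) :
    P4 →* K :=
  PresentedGroup.toGroup (f := ![x, y, z, t]) (by
    intro r hr
    rcases hr with ⟨p, hp, rfl⟩ | ⟨i, rfl⟩
    · rw [_root_.map_mul, _root_.map_inv, _root_.map_pow, lift_wF4, lift_wF4, mul_inv_eq_one]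
      exact hval p hp
    · rw [_root_.map_mul, _root_.map_mul, _root_.map_mul, _root_.map_inv, _root_.map_inv, lift_wF4,
        mul_inv_eq_one, mul_inv_eq_iff_eq_mul, FreeGroup.lift_apply_of]
      exact hcen i)

section

variable {K : Type*} [Group K] (x y z t : K)
    (hval : ∀ p ∈ modelL, wv x y z t p.1 = (wv x y z t U43M.yW) ^ p.2)
    (hcen : ∀ i : Fin 4, wv x y z t U43M.yW * ![x, y, z, t] i = ![x, y, z, t] i * wv x y z t U43M.yW)

theorem homP4_qa : homP4 x y z t hval hcen qa = x := by
  unfold homP4 qa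
  rw [PresentedGroup.toGroup.of]
  rfl

theorem homP4_qb : homP4 x y z t hval hcen qb = y := by
  unfold homP4 qb
  rw [PresentedGroup.toGroup.of]
  rfl

theorem homP4_qc : homP4 x y z t hval hcen qc = z := by
  unfold homP4 qc
  rw [PresentedGroup.toGroup.of]
  rfl

theorem homP4_qd : homP4 x y z t hval hcen qd = t := by
  unfold homP4 qd
  rw [PresentedGroup.toGroup.of]
  rfl

theorem homP4_wv (w : List ℕ) : homP4 x y z t hval hcen (wv qa qb qc qd w) = wv x y z t w := by
  rw [map_wv, homP4_qa, homP4_qb, homP4_qc, homP4_qd]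

theorem homP4_zP : homP4 x y z t hval hcen zP = wv x y z t U43M.yW :=
  homP4_wv x y z t hval hcen U43M.yW

end

end Cfsg.Agent.Lib.H6.McLM
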