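import Cfsg.Agent.Lib.H6.McLM.Stem
import Cfsg.Agent.Lib.H6.McLM.Pres

set_option autoImplicit false
set_option maxRecDepth 100000

/-!
# The Schur multiplier of a group with the McLaughlin data is cyclic of order `3` (helper6, S2047)

Existence: the presented group `P4` is a finite stem extension with kernel `⟨z⟩`, and `z` has order `3` by the model.
Universality: `Base4.stem`.
-/

namespace Cfsg.Agent.Lib.H6.McLM

open Subgroup
open scoped commutatorElement

/-- a group generated by an element of order dividing three is an image of `ZMod 3` (as in helper20's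
`Lib/H20/J3Stem.lean`) -/
theorem exists_surj3 {K : Type*} [Group K] (z : K) (h3 : z ^ 3 = 1) (hgen : ∀ y : K, y ∈ zpowers z) :
    ∃ f : Multiplicative (ZMod 3) →* K, Function.Surjective f := by
  let f : Multiplicative (ZMod 3) →* K :=
    { toFun := fun m => z ^ (Multiplicative.toAdd m).val
      map_one' := by simp
      map_mul' := by
        intro a b
        change z ^ (Multiplicative.toAdd a + Multiplicative.toAdd b).val = _
        rw [ZMod.val_add, ← pow_eq_pow_mod _ h3, pow_add] }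
  refine ⟨f, ?_⟩
  intro y
  have hfo : IsOfFinOrder z := isOfFinOrder_iff_pow_eq_one.2 ⟨3, by norm_num, h3⟩
  obtain ⟨n, rfl⟩ := (IsOfFinOrder.mem_powers_iff_mem_zpowers hfo).2 (hgen y)
  refine ⟨Multiplicative.ofAdd (n : ZMod 3), ?_⟩
  change z ^ ((n : ZMod 3)).val = z ^ n
  rw [ZMod.val_natCast, ← pow_eq_pow_mod _ h3]

theorem finite_zpowers3 {K : Type*} [Group K] (z : K) (h : z ^ 3 = 1) : Finite ↥(zpowers z) := by
  have hfo : IsOfFinOrder z := isOfFinOrder_iff_pow_eq_one.2 ⟨3, by norm_num, h⟩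
  have := Nat.card_zpowers z
  apply Nat.finite_of_card_ne_zero
  rw [this]
  exact (orderOf_pos_iff.2 hfo).ne'

theorem mem_commutator_of_frob {K : Type*} [Group K] (e d : K) (h11 : d ^ 11 = 1)
    (hf : e * d * e⁻¹ = d ^ 3) : d ∈ commutator K := by
  have e1 : ⁅e, d⁆ = d ^ 2 := by
    rw [commutatorElement_def, hf, pow_succ, mul_inv_cancel_right]
  have e2 : ⁅e, d⁆ ∈ commutator K :=
    Subgroup.commutator_mem_commutator (Subgroup.mem_top e) (Subgroup.mem_top d)
  rw [e1] at e2
  have e3 : d = (d ^ 2) ^ 6 := by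
    rw [← pow_mul, show 2 * 6 = 11 + 1 from rfl, pow_succ, h11, one_mul]
  rw [e3]
  exact pow_mem e2 6

/-- the words of `modelL` are relators of the three certificates -/
theorem modelL_cases : ∀ p ∈ modelL, p.1 ∈ U43M.s1L ∨
    p.1 ∈ U43M.Cert.exactL ++ (U43M.Cert.symL ++ U43M.Cert.cenL) ∨
    p.1 ∈ Cert.exactL ++ (Cert.symL ++ Cert.cenL) := by
  decide +kernel

theorem modelL_exact0 : ∀ w ∈ U43M.Cert.exactL ++ U43M.s1L, (w, 0) ∈ modelL := by
  decide +kernel

theorem modelL_central3 : ∀ w ∈ U43M.Cert.symL ++ U43M.Cert.cenL, ∃ j < 3, (w, j) ∈ modelL := by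
  decide +kernel

theorem modelL_exact4 : ∀ w ∈ Cert.exactL, ∃ j < 3, (w, j) ∈ modelL := by
  decide +kernel

theorem modelL_central4 : ∀ w ∈ Cert.symL ++ Cert.cenL, ∃ j < 3, (w, j) ∈ modelL := by
  decide +kernel

theorem modelL_special : (U43M.xW, 0) ∈ modelL ∧ (U43M.yW, 1) ∈ modelL ∧
    (List.replicate 11 6, 0) ∈ modelL ∧ (frobW, 0) ∈ modelL := by
  decide +kernel

theorem lt6_xy : (∀ i ∈ U43M.xW, i < 6) ∧ (∀ i ∈ U43M.yW, i < 6) := by
  decide

theorem lt6_exactP : ∀ w ∈ U43M.Cert.exactL ++ U43M.s1L, ∀ i ∈ w, i < 6 := by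
  decide

theorem lt6_centralP : ∀ w ∈ U43M.Cert.symL ++ U43M.Cert.cenL, ∀ i ∈ w, i < 6 := by
  decide

variable {G : Type} [Group G] {am bm cm dm : G}

/-- all the words of `modelL` are trivial in `G` -/
theorem Base4.model_one (B : Base4 am bm cm dm) : ∀ p ∈ modelL, wv am bm cm dm p.1 = 1 := by
  intro p hp
  rcases modelL_cases p hp with h | h | h
  · have hlt := U43M.s1L_lt p.1 h
    rw [wv_eq_wv3 am bm cm dm p.1 (fun i hi => lt_trans (hlt i hi) (by norm_num)),
      U43M.wv_eq_wv2 am bm cm p.1 hlt]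
    exact B.rel1 p.1 h
  · have hlt : ∀ i ∈ p.1, i < 6 := U43M.letters_lt6 p.1 (by rw [List.append_assoc]; exact h)
    rw [wv_eq_wv3 am bm cm dm p.1 hlt]
    exact B.rel2 p.1 h
  · exact B.rel3 p.1 h

theorem Base4.model_val (B : Base4 am bm cm dm) :
    ∀ p ∈ modelL, wv am bm cm dm p.1 = (wv am bm cm dm U43M.yW) ^ p.2 := by
  intro p hp
  rw [B.model_one p hp, B.model_one _ modelL_special.2.1, one_pow]

/-- the covering homomorphism -/
noncomputable def Base4.cover (B : Base4 am bm cm dm) : P4 →* G :=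
  homP4 am bm cm dm B.model_val (fun i => by
    rw [B.model_one _ modelL_special.2.1, one_mul, mul_one])

theorem Base4.cover_wv (B : Base4 am bm cm dm) (w : List ℕ) :
    B.cover (wv qa qb qc qd w) = wv am bm cm dm w :=
  homP4_wv _ _ _ _ _ _ w

theorem Base4.cover_surjective (B : Base4 am bm cm dm) : Function.Surjective B.cover := by
  rw [← MonoidHom.range_eq_top, eq_top_iff, ← B.gen, closure_le]
  intro g hg
  simp only [Set.mem_insert_iff, Set.mem_singleton_iff] at hg
  rcases hg with rfl | rfl | rfl | rfl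
  · exact ⟨qa, homP4_qa _ _ _ _ _ _⟩
  · exact ⟨qb, homP4_qb _ _ _ _ _ _⟩
  · exact ⟨qc, homP4_qc _ _ _ _ _ _⟩
  · exact ⟨qd, homP4_qd _ _ _ _ _ _⟩

/-- the facts about the presented group `P4` -/
theorem Base4.cover_facts (B : Base4 am bm cm dm)
    (BH : U43M.Base (aH am bm cm) (bH am bm cm) (cH am bm cm)) :
    Finite P4 ∧ zP ^ 3 = 1 ∧ B.cover.ker = zpowers zP ∧ commutator P4 = ⊤ := by
  have hs := B.cover_surjective
  have hfinG := B.finite
  have hca : B.cover qa = am := homP4_qa _ _ _ _ _ _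
  have hcb : B.cover qb = bm := homP4_qb _ _ _ _ _ _
  have hcc : B.cover qc = cm := homP4_qc _ _ _ _ _ _
  have hcd : B.cover qd = dm := homP4_qd _ _ _ _ _ _
  have hzc : ∀ x : P4, x * zP = zP * x := fun x => mem_center_iff.1 P4_central x
  have hzk : zP ∈ B.cover.ker := by
    rw [MonoidHom.mem_ker]
    unfold zP
    rw [B.cover_wv, B.model_one _ modelL_special.2.1]
  have hzpk : ∀ j : ℕ, zP ^ j ∈ B.cover.ker ⊓ center P4 := fun j =>
    ⟨pow_mem hzk j, pow_mem P4_central j⟩
  have hexP : ∀ w ∈ U43M.Cert.exactL ++ U43M.s1L, U43M.wv qa qb qc w = 1 := by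
    intro w hw
    rw [← wv_eq_wv3 qa qb qc qd w (lt6_exactP w hw)]
    have := P4_val _ (modelL_exact0 w hw)
    rwa [pow_zero] at this
  have hcenP : ∀ w ∈ U43M.Cert.symL ++ U43M.Cert.cenL, ∀ i : Fin 3,
      U43M.wv qa qb qc w * ![qa, qb, qc] i = ![qa, qb, qc] i * U43M.wv qa qb qc w := by
    intro w hw i
    obtain ⟨j, -, hj⟩ := modelL_central3 w hw
    rw [← wv_eq_wv3 qa qb qc qd w (lt6_centralP w hw), P4_val _ hj]
    exact ((mem_center_iff.1 (pow_mem P4_central j)) _).symm
  obtain ⟨-, h3, hmem⟩ := BH.mem_of_map_eq_one (HS am bm cm).subtype (HS am bm cm).subtype_injective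
    B.cover qa qb qc hca hcb hcc hexP hcenP
  have hX1 : U43M.wv qa qb qc U43M.xW = 1 := by
    rw [← wv_eq_wv3 qa qb qc qd _ lt6_xy.1]
    have := P4_val _ modelL_special.1
    rwa [pow_zero] at this
  have hWz : U43M.wv qa qb qc U43M.yW = zP := (wv_eq_wv3 qa qb qc qd _ lt6_xy.2).symm
  rw [hX1, hWz] at hmem
  rw [hWz, inv_pow, inv_eq_one] at h3
  have hfinZ : Finite ↥(zpowers zP) := finite_zpowers3 zP h3
  have hinj : ∀ x ∈ closure ({qa, qb, qc} : Set P4), B.cover x = 1 → x ∈ zpowers zP := by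
    intro x hx hx1
    have h := hmem x hx hx1
    have hle : closure ({(1 : P4)⁻¹, zP⁻¹} : Set P4) ≤ zpowers zP := by
      rw [closure_le]
      intro g hg
      simp only [Set.mem_insert_iff, Set.mem_singleton_iff] at hg
      rcases hg with rfl | rfl
      · rw [inv_one]; exact one_mem _
      · exact inv_mem (mem_zpowers zP)
    exact hle h
  have hZ : zpowers zP ≤ B.cover.ker ⊓ center P4 := by
    rw [zpowers_le]
    exact ⟨hzk, P4_central⟩
  have hH : Nat.card (closure ({B.cover qa, B.cover qb, B.cover qc} : Set G)) = 3265920 := by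
    rw [hca, hcb, hcc]
    exact BH.card
  have hex4 : ∀ w ∈ Cert.exactL, wv qa qb qc qd w ∈ zpowers zP := by
    intro w hw
    obtain ⟨j, -, hj⟩ := modelL_exact4 w hw
    rw [P4_val _ hj]
    exact pow_mem (mem_zpowers zP) j
  have hcen4 : ∀ w ∈ Cert.symL ++ Cert.cenL, wv qa qb qc qd w ∈ B.cover.ker ⊓ center P4 := by
    intro w hw
    obtain ⟨j, -, hj⟩ := modelL_central4 w hw
    rw [P4_val _ hj]
    exact hzpk j
  obtain ⟨hfin, hker⟩ := Cfsg.Agent.Lib.H2.McLM.core4 B.cover hs B.card qa qb qc qd (zpowers zP) hZ hH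
    hinj hex4 hcen4 P4_gen
  refine ⟨hfin, h3, hker, ?_⟩
  -- perfectness
  obtain ⟨m1, m2, m3⟩ := U43M.mem_commutator_of_exact qa qb qc
    (fun w hw => by
      have hw' : w ∈ U43M.s1L := List.mem_append_left _ hw
      rw [← U43M.wv_eq_wv2 qa qb qc w (U43M.s1L_lt w hw')]
      exact hexP w (List.mem_append_right _ hw'))
    (fun w hw => hexP w (List.mem_append_left _ hw))
  have hd11 : qd ^ 11 = 1 := by
    have := P4_val _ modelL_special.2.2.1
    rwa [pow_zero, wv_replicate6] at this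
  have hfrob : wv qa qb qc qd weL * qd * (wv qa qb qc qd weL)⁻¹ = qd ^ 3 := by
    apply (frob_iff qa qb qc qd).1
    have := P4_val _ modelL_special.2.2.2
    rwa [pow_zero] at this
  have m4 : qd ∈ commutator P4 := mem_commutator_of_frob _ qd hd11 hfrob
  rw [eq_top_iff, ← P4_gen, closure_le]
  intro g hg
  simp only [Set.mem_insert_iff, Set.mem_singleton_iff] at hg
  rcases hg with rfl | rfl | rfl | rfl
  · exact m1
  · exact m2
  · exact m3
  · exact m4

/-- the multiplier of a group with the McLaughlin data is cyclic of order three -/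
theorem Base4.main (B : Base4 am bm cm dm)
    (BH : U43M.Base (aH am bm cm) (bH am bm cm) (cH am bm cm))
    (hM : ∃ (M : Type) (_ : Group M) (ga gb gc gd z : M), z ≠ 1 ∧ z ^ 3 = 1 ∧
      ga * z = z * ga ∧ gb * z = z * gb ∧ gc * z = z * gc ∧ gd * z = z * gd ∧
      ∀ p ∈ modelL, wv ga gb gc gd p.1 = z ^ p.2) :
    Cfsg.HasCyclicSchurMultiplier G 3 := by
  constructor
  · obtain ⟨hfin, h3, hker, hperf⟩ := B.cover_facts BH
    refine ⟨P4, inferInstance, hfin, B.cover, ⟨B.cover_surjective, ?_, by rw [hperf]; exact le_top⟩, ?_⟩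
    · rw [hker, zpowers_le]
      exact P4_central
    · obtain ⟨M, _, ga, gb, gc, gd, z, hz1, hz3, ca, cb, cc, cd, hval⟩ := hM
      have hzy : wv ga gb gc gd U43M.yW = z := by
        have := hval _ modelL_special.2.1
        rwa [pow_one] at this
      let φ : P4 →* M := homP4 ga gb gc gd (fun p hp => by rw [hzy]; exact hval p hp) (fun i => by
        rw [hzy]
        fin_cases i
        · exact ca.symm
        · exact cb.symm
        · exact cc.symm
        · exact cd.symm)
      have hφ : φ zP = z := by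
        rw [homP4_zP, hzy]
      have hne : zP ≠ 1 := by
        intro h
        rw [h, map_one] at hφ
        exact hz1 hφ.symm
      have ho : orderOf zP = 3 := by
        have := orderOf_dvd_of_pow_eq_one h3
        rcases (Nat.dvd_prime Nat.prime_three).1 this with h | h
        · exact absurd (orderOf_eq_one_iff.1 h) hne
        · exact h
      have : Fact (Nat.Prime 3) := ⟨Nat.prime_three⟩
      have h1 : Nat.card B.cover.ker = 3 := by
        rw [hker, Nat.card_zpowers, ho]
      have h2 : Nat.card (Multiplicative (ZMod 3)) = 3 := by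
        rw [Nat.card_eq_fintype_card, Fintype.card_multiplicative, ZMod.card]
      exact ⟨mulEquivOfPrimeCardEq h1 h2⟩
  · intro Γ _ _ σ hσ
    obtain ⟨w, hw3, hwk⟩ := B.stem BH σ hσ
    have hwmem : w ∈ σ.ker := by rw [hwk]; exact mem_zpowers w
    refine exists_surj3 (K := σ.ker) ⟨w, hwmem⟩ (Subtype.ext (by simpa using hw3)) ?_
    intro y
    have hy : (y : Γ) ∈ zpowers w := by rw [← hwk]; exact y.2
    obtain ⟨n, hn⟩ := mem_zpowers_iff.mp hy
    exact mem_zpowers_iff.mpr ⟨n, Subtype.ext (by simpa using hn)⟩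

end Cfsg.Agent.Lib.H6.McLM
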