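import Cfsg.Agent.Lib.H6.McLM.Words
import Cfsg.Agent.Lib.H6.U43M.Lifts

set_option autoImplicit false
set_option maxRecDepth 100000

/-!
# The data of the McLaughlin group for the multiplier computation (helper6, S2047)

`Base4 am bm cm dm`: four generators of a group `G` of order `898128000`; `am bm cm` satisfy the relators of the two
`U4(3)` certificates (`Lib/H6/U43M`), all four satisfy the relators of the stage 3 certificate (`Lib/H6/McLM/Cert`),
the words `u` of the relators `d⁻¹ u d = u'` have order `7`, and the two fusion relations hold.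
-/

namespace Cfsg.Agent.Lib.H6.McLM

open Subgroup

/-- the data on the group `G` -/
structure Base4 {G : Type} [Group G] (am bm cm dm : G) : Prop where
  rel1 : ∀ w ∈ U43M.s1L, U33M.wv am bm w = 1
  rel2 : ∀ w ∈ U43M.Cert.exactL ++ (U43M.Cert.symL ++ U43M.Cert.cenL), U43M.wv am bm cm w = 1
  rel3 : ∀ w ∈ Cert.exactL ++ (Cert.symL ++ Cert.cenL), wv am bm cm dm w = 1
  ord7 : ∀ p ∈ cjL, U43M.wv am bm cm p.1 ^ 7 = 1
  fus : ∀ p ∈ fusL, wv am bm cm dm (cjW p) = 1
  fcomm1 : wv am bm cm dm (commW fu1 fv1) = 1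
  fcomm2 : wv am bm cm dm (commW fu2 fv2) = 1
  gen : closure {am, bm, cm, dm} = ⊤
  card : Nat.card G = 898128000
  a_ne : am ≠ 1
  c_ne : cm ≠ 1
  d_ne : dm ≠ 1

variable {G : Type} [Group G] {am bm cm dm : G}

theorem Base4.finite (B : Base4 am bm cm dm) : Finite G :=
  Nat.finite_of_card_ne_zero (by rw [B.card]; norm_num)

theorem Base4.exact3 (B : Base4 am bm cm dm) : ∀ w ∈ Cert.exactL, wv am bm cm dm w = 1 :=
  fun w hw => B.rel3 w (List.mem_append_left _ hw)

theorem Base4.d11 (B : Base4 am bm cm dm) : dm ^ 11 = 1 := by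
  have h := B.exact3 (List.replicate 11 6) (by decide)
  rwa [wv_replicate6] at h

theorem Base4.frob (B : Base4 am bm cm dm) :
    wv am bm cm dm weL * dm * (wv am bm cm dm weL)⁻¹ = dm ^ 3 :=
  (frob_iff am bm cm dm).1 (B.exact3 frobW (by decide))

/-- the subgroup `H = U4(3)` -/
def HS (am bm cm : G) : Subgroup G := closure {am, bm, cm}

theorem am_mem : am ∈ HS am bm cm := subset_closure (by simp)
theorem bm_mem : bm ∈ HS am bm cm := subset_closure (by simp)
theorem cm_mem : cm ∈ HS am bm cm := subset_closure (by simp)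

/-- the generators as elements of `H` -/
def aH (am bm cm : G) : ↥(HS am bm cm) := ⟨am, am_mem⟩
/-- the generators as elements of `H` -/
def bH (am bm cm : G) : ↥(HS am bm cm) := ⟨bm, bm_mem⟩
/-- the generators as elements of `H` -/
def cH (am bm cm : G) : ↥(HS am bm cm) := ⟨cm, cm_mem⟩

end Cfsg.Agent.Lib.H6.McLM
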