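import Cfsg.Agent.Lib.H6.McLM.Base

set_option autoImplicit false
set_option maxRecDepth 100000

/-!
# Values of words in the presented group `P` of `U4(3)` (helper6, S2047)

A word in the three generators that is trivial in `G` has, in the presented group `P` (and hence in every group with
three elements satisfying the relators of `P`), the value `X ^ e * W ^ t` read off from the two monomial models.  This is
applied to the four commutator words of the two fusion relations of the McLaughlin group.
-/

namespace Cfsg.Agent.Lib.H6.McLM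

open Subgroup
open Cfsg.Agent.Lib.H17.MonoModel

theorem f1_chk1 : checkWordM ((commW fu1 fv1).map U43M.Model1.tabs) 0 540 = true := by
  decide +kernel

theorem f1_chk2 : checkWordM ((commW fu1 fv1).map U43M.Model2.tabs) 0 540 = true := by
  decide +kernel

theorem f1'_chk1 : checkWordM ((commW fu1' fv1').map U43M.Model1.tabs) 9 540 = true := by
  decide +kernel

theorem f1'_chk2 : checkWordM ((commW fu1' fv1').map U43M.Model2.tabs) 0 540 = true := by
  decide +kernel

theorem f2_chk1 : checkWordM ((commW fu2 fv2).map U43M.Model1.tabs) 8 540 = true := by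
  decide +kernel

theorem f2_chk2 : checkWordM ((commW fu2 fv2).map U43M.Model2.tabs) 0 540 = true := by
  decide +kernel

theorem f2'_chk1 : checkWordM ((commW fu2' fv2').map U43M.Model1.tabs) 4 540 = true := by
  decide +kernel

theorem f2'_chk2 : checkWordM ((commW fu2' fv2').map U43M.Model2.tabs) 0 540 = true := by
  decide +kernel

theorem fcomm_lt : ∀ w ∈ [commW fu1 fv1, commW fu1' fv1', commW fu2 fv2, commW fu2' fv2'], ∀ x ∈ w, x < 6 := by
  decide

section values

variable {G : Type} [Group G] {am bm cm : G}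

/-- the generator `X` of the kernel of the covering homomorphism -/
noncomputable def XP : U43M.P := (U43M.wv U43M.pa U43M.pb U43M.pc U43M.xW)⁻¹

/-- the generator `W` of the kernel of the covering homomorphism -/
noncomputable def WP : U43M.P := (U43M.wv U43M.pa U43M.pb U43M.pc U43M.yW)⁻¹

/-- the two models separate the elements `X ^ i * W ^ k` -/
theorem models_sep2 (i k : ℕ) (h1 : U43M.model1 (XP ^ i * WP ^ k) = 1)
    (h2 : U43M.model2 (XP ^ i * WP ^ k) = 1) :
    ((i : ZMod 12) = 0) ∧ (4 * (k : ZMod 12) = 0) := by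
  unfold XP WP at h1 h2
  constructor
  · rw [map_mul, map_pow, map_pow, U43M.model1_X, U43M.model1_W, shiftP_pow, shiftP_pow,
      U43M.shiftP_mul] at h1
    have := U43M.shiftP_eq_one h1
    push_cast at this
    linear_combination this
  · rw [map_mul, map_pow, map_pow, U43M.model2_X, U43M.model2_W, shiftP_pow, shiftP_pow,
      U43M.shiftP_mul] at h2
    have := U43M.shiftP_eq_one h2
    push_cast at this
    linear_combination this

/-- an element of the kernel of the covering homomorphism that is trivial in both models is trivial -/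
theorem ker_sep (B : U43M.Base am bm cm) (y : U43M.P) (hy : B.cover y = 1)
    (h1 : U43M.model1 y = 1) (h2 : U43M.model2 y = 1) : y = 1 := by
  obtain ⟨-, h12, h3, hker, hkc⟩ := B.cover_facts
  have hXc : (U43M.wv U43M.pa U43M.pb U43M.pc U43M.xW)⁻¹ ∈ center U43M.P :=
    inv_mem (U43M.P_central U43M.xW (by decide))
  have hcomm : Commute ((U43M.wv U43M.pa U43M.pb U43M.pc U43M.xW)⁻¹ : U43M.P)
      (U43M.wv U43M.pa U43M.pb U43M.pc U43M.yW)⁻¹ := ((mem_center_iff.1 hXc) _).symm
  obtain ⟨f, hf, hform⟩ := U43M.exists_hom_T433 _ _ hcomm h12 h3 B.cover.ker hker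
  obtain ⟨t, ht⟩ := hf ⟨y, MonoidHom.mem_ker.2 hy⟩
  have hyt : y = XP ^ (3 * (Multiplicative.toAdd t).1.val + 4 * (Multiplicative.toAdd t).2.1.val) *
      WP ^ (Multiplicative.toAdd t).2.2.val := by
    have := hform t
    rw [ht] at this
    exact this
  rw [hyt] at h1 h2
  have hsep := models_sep2 _ _ h1 h2
  have h0 : t = 1 := U43M.sep_T433 (Multiplicative.toAdd t) hsep
  rw [hyt, h0]
  simp

/-- the value in `P` of a word that is trivial in `G` -/
theorem word_val_P (B : U43M.Base am bm cm) (w : List ℕ) (hw : ∀ x ∈ w, x < 6)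
    (hG : U43M.wv am bm cm w = 1) (e1 e2 t : ℕ) (he : (e2 : ZMod 12) = 4 * (t : ZMod 12))
    (h1 : checkWordM (w.map U43M.Model1.tabs) e1 540 = true)
    (h2 : checkWordM (w.map U43M.Model2.tabs) e2 540 = true) :
    (U43M.wv U43M.pa U43M.pb U43M.pc w)⁻¹ = XP ^ e1 * WP ^ t := by
  have hX : B.cover XP = 1 := by
    unfold XP
    rw [map_inv, B.cover_wv, B.rel2 U43M.xW (by decide), inv_one]
  have hW : B.cover WP = 1 := by
    unfold WP
    rw [map_inv, B.cover_wv, B.rel2 U43M.yW (by decide), inv_one]
  have key : (U43M.wv U43M.pa U43M.pb U43M.pc w)⁻¹ * (XP ^ e1 * WP ^ t)⁻¹ = 1 := by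
    apply ker_sep B
    · rw [map_mul, map_inv, map_inv, map_mul, map_pow, map_pow, B.cover_wv, hG, hX, hW]
      simp
    · have hm : U43M.model1 (U43M.wv U43M.pa U43M.pb U43M.pc w)⁻¹ = shiftP 540 ((e1 : ℕ) : ZMod 12) :=
        U43M.modelHomG_word _ _ _ _ _ w hw e1 h1
      rw [map_mul, hm, map_inv, map_mul, map_pow, map_pow]
      unfold XP WP
      rw [U43M.model1_X, U43M.model1_W, shiftP_pow, shiftP_pow, U43M.shiftP_mul, mul_inv_eq_one]
      congr 1
      push_cast
      ring
    · have hm : U43M.model2 (U43M.wv U43M.pa U43M.pb U43M.pc w)⁻¹ = shiftP 540 ((e2 : ℕ) : ZMod 12) :=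
        U43M.modelHomG_word _ _ _ _ _ w hw e2 h2
      rw [map_mul, hm, map_inv, map_mul, map_pow, map_pow]
      unfold XP WP
      rw [U43M.model2_X, U43M.model2_W, shiftP_pow, shiftP_pow, U43M.shiftP_mul, mul_inv_eq_one]
      congr 1
      rw [he]
      push_cast
      ring
  exact mul_inv_eq_one.1 key

/-- the value of a word that is trivial in `G`, in a group with three elements satisfying the relators of `P` -/
theorem word_val (B : U43M.Base am bm cm) {E : Type*} [Group E] (a b c : E)
    (hex : ∀ w ∈ U43M.Cert.exactL ++ U43M.s1L, U43M.wv a b c w = 1)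
    (hcen : ∀ w ∈ U43M.Cert.symL ++ U43M.Cert.cenL, ∀ i : Fin 3,
      U43M.wv a b c w * ![a, b, c] i = ![a, b, c] i * U43M.wv a b c w)
    (w : List ℕ) (hw : ∀ x ∈ w, x < 6)
    (hG : U43M.wv am bm cm w = 1) (e1 e2 t : ℕ) (he : (e2 : ZMod 12) = 4 * (t : ZMod 12))
    (h1 : checkWordM (w.map U43M.Model1.tabs) e1 540 = true)
    (h2 : checkWordM (w.map U43M.Model2.tabs) e2 540 = true) :
    (U43M.wv a b c w)⁻¹ = ((U43M.wv a b c U43M.xW)⁻¹) ^ e1 * ((U43M.wv a b c U43M.yW)⁻¹) ^ t := by
  have h := congrArg (U43M.homP a b c hex hcen) (word_val_P B w hw hG e1 e2 t he h1 h2)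
  unfold XP WP at h
  rw [map_inv, U43M.homP_wv, map_mul, map_pow, map_pow, map_inv, map_inv, U43M.homP_wv,
    U43M.homP_wv] at h
  exact h

end values

end Cfsg.Agent.Lib.H6.McLM
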