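import Cfsg.Agent.Lib.H6.McLM.Defs
import Cfsg.Agent.Lib.H6.McLM.Cert.Run
import Cfsg.Agent.Lib.H6.McLM.Cert.Alg
import Cfsg.Agent.Lib.H6.McLM.Cert.Lists

set_option autoImplicit false
set_option maxRecDepth 100000

/-!
# The monomial certificate applied to a group with four marked elements (generated glue, trivial kernel)

`Setting ga gb gc gd A`: the exact relators hold for `ga gb gc gd`, all other relators have values in the
central subgroup `A`, which meets `⟨ga, gb, gc⟩` trivially, and `ga gb gc gd` generate.  Conclusion: `⟨ga, gb, gc⟩` has at most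
`275` cosets.  (Adapted from helper17's `Lib/H17/L34M/Glue.lean`.)
-/

namespace Cfsg.Agent.Lib.H6.McLM

open Cfsg.Agent.Lib.H17.CosetCert (WT act)
open Cfsg.Agent.Lib.H17.MonoCert

section

variable {Γ : Type*} [Group Γ] (ga gb gc gd : Γ)

theorem act_inv' {Q : Type*} [MulAction Γ Q] (g : ℕ → Γ) (u : List ℕ) (q : Q) :
    act (fun x => (g x)⁻¹) u q = ((u.map g).prod)⁻¹ • q := by
  induction u generalizing q with
  | nil => simp [act]
  | cons x u ih =>
    change act (fun x => (g x)⁻¹) u ((g x)⁻¹ • q) = _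
    rw [ih, List.map_cons, List.prod_cons, mul_inv_rev, mul_smul]

/-- the hypotheses -/
structure Setting (A : Subgroup Γ) : Prop where
  central : A ≤ Subgroup.center Γ
  disj : ∀ x ∈ Subgroup.closure {ga, gb, gc}, x ∈ A → x = 1
  exact : ∀ w ∈ Cert.exactL, wv ga gb gc gd w = 1
  rel : ∀ w ∈ Cert.symL ++ Cert.cenL, wv ga gb gc gd w ∈ A
  gen : Subgroup.closure {ga, gb, gc, gd} = ⊤

theorem wv_pair : ∀ w ∈ Cert.pairL, wv ga gb gc gd w = 1 := by
  intro w hw
  simp only [Cert.pairL, List.mem_cons, List.not_mem_nil, or_false] at hw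
  rcases hw with rfl | rfl | rfl | rfl | rfl | rfl | rfl | rfl <;> simp [wv, gl]

variable {ga gb gc gd}

theorem Setting.rel_all {A : Subgroup Γ} (S : Setting ga gb gc gd A) :
    ∀ w ∈ Cert.relL, wv ga gb gc gd w ∈ A := by
  intro w hw
  rcases Cert.rel_cases w hw with h | h
  · rcases List.mem_append.mp h with h1 | h1
    · rw [S.exact w h1]; exact one_mem _
    · rw [wv_pair ga gb gc gd w h1]; exact one_mem _
  · exact S.rel w h

end

section main

variable {Γ : Type*} [Group Γ] {ga gb gc gd : Γ} {A : Subgroup Γ}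

open Classical in
/-- the inverse of the value of a word, as an element of `A` (`1` if the value is not in `A`) -/
noncomputable def ρA (ga gb gc gd : Γ) (A : Subgroup Γ) (w : List ℕ) : A :=
  if h : wv ga gb gc gd w ∈ A then ⟨(wv ga gb gc gd w)⁻¹, A.inv_mem h⟩ else 1

theorem ρA_coe (w : List ℕ) (h : wv ga gb gc gd w ∈ A) :
    ((ρA ga gb gc gd A w : A) : Γ) = (wv ga gb gc gd w)⁻¹ := by
  unfold ρA
  rw [dif_pos h]

/-- a central subgroup is commutative -/
@[reducible] def commGroupOfCentral (A : Subgroup Γ) (h : A ≤ Subgroup.center Γ) : CommGroup A :=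
  { (inferInstance : Group A) with
    mul_comm := fun a b => Subtype.ext (Subgroup.mem_center_iff.mp (h b.2) a) }

theorem smulComm (S : Setting ga gb gc gd A) :
    SMulCommClass Γ A (Γ ⧸ Subgroup.closure {ga, gb, gc}) := by
  constructor
  intro x a q
  change x • ((a : Γ) • q) = (a : Γ) • (x • q)
  rw [← mul_smul, ← mul_smul, Subgroup.mem_center_iff.mp (S.central a.2) x]

theorem free_of_setting (S : Setting ga gb gc gd A) (α β : A)
    (q : Γ ⧸ Subgroup.closure {ga, gb, gc}) (h : α • q = β • q) : α = β := by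
  induction q using Quotient.inductionOn' with
  | h x =>
    have h1 : (((α : Γ) * x : Γ) : Γ ⧸ Subgroup.closure {ga, gb, gc}) = (((β : Γ) * x : Γ) : _) := h
    rw [QuotientGroup.eq] at h1
    have hc : ((α : Γ) * x)⁻¹ * ((β : Γ) * x) = (α : Γ)⁻¹ * (β : Γ) := by
      have hcen : x⁻¹ * ((α : Γ)⁻¹ * (β : Γ)) = ((α : Γ)⁻¹ * (β : Γ)) * x⁻¹ :=
        Subgroup.mem_center_iff.mp (S.central (A.mul_mem (A.inv_mem α.2) β.2)) x⁻¹
      calc ((α : Γ) * x)⁻¹ * ((β : Γ) * x) = (x⁻¹ * ((α : Γ)⁻¹ * (β : Γ))) * x := by group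
        _ = ((α : Γ)⁻¹ * (β : Γ)) * x⁻¹ * x := by rw [hcen]
        _ = (α : Γ)⁻¹ * (β : Γ) := by group
    rw [hc] at h1
    have h2 := S.disj _ h1 (A.mul_mem (A.inv_mem α.2) β.2)
    apply Subtype.ext
    exact inv_mul_eq_one.mp h2

theorem gens_top (S : Setting ga gb gc gd A) :
    Subgroup.closure {g : Γ | ∃ x < 8, g = (gl ga gb gc gd x)⁻¹} = ⊤ := by
  rw [eq_top_iff, ← S.gen, Subgroup.closure_le]
  intro g hg
  simp only [Set.mem_insert_iff, Set.mem_singleton_iff] at hg
  apply Subgroup.subset_closure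
  rcases hg with rfl | rfl | rfl | rfl
  · exact ⟨1, by norm_num, by simp [gl]⟩
  · exact ⟨3, by norm_num, by simp [gl]⟩
  · exact ⟨5, by norm_num, by simp [gl]⟩
  · exact ⟨7, by norm_num, by simp [gl]⟩

theorem letters_inv : ∀ x < 8, ∃ y < 8, (gl ga gb gc gd y)⁻¹ = ((gl ga gb gc gd x)⁻¹)⁻¹ := by
  intro x hx
  interval_cases x
  · exact ⟨1, by norm_num, by simp [gl]⟩
  · exact ⟨0, by norm_num, by simp [gl]⟩
  · exact ⟨3, by norm_num, by simp [gl]⟩
  · exact ⟨2, by norm_num, by simp [gl]⟩
  · exact ⟨5, by norm_num, by simp [gl]⟩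
  · exact ⟨4, by norm_num, by simp [gl]⟩
  · exact ⟨7, by norm_num, by simp [gl]⟩
  · exact ⟨6, by norm_num, by simp [gl]⟩

/-- the list of the symbol values -/
noncomputable def ζs (ga gb gc gd : Γ) (A : Subgroup Γ) : List A := Cert.symL.map (ρA ga gb gc gd A)

theorem wordsOK (S : Setting ga gb gc gd A) :
    letI := commGroupOfCentral A S.central
    haveI := smulComm S
    WordsOK Cert.Ev (ltw (ζs ga gb gc gd A)) (fun x => (gl ga gb gc gd x)⁻¹)
      (((1 : Γ) : Γ ⧸ Subgroup.closure {ga, gb, gc})) Cert.words 101 := by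
  let _ := commGroupOfCentral A S.central
  intro w wd r hget
  have hm := WT.get_mem Cert.words w (wd, r) hget
  obtain ⟨h1, h2⟩ := Cert.words_mem _ hm
  refine ⟨fun hr => ?_, fun hr hw => ?_, fun hr => ?_⟩
  · have hA := S.rel_all wd (h1 hr)
    refine ⟨⟨(wv ga gb gc gd wd)⁻¹, A.inv_mem hA⟩, fun q => ?_⟩
    rw [act_inv']
    rfl
  · subst hr
    have hs := Cert.seed_mem w hw
    unfold Cert.seedChk at hs
    rw [hget] at hs
    simp only [decide_eq_true_eq] at hs
    intro q
    rw [act_inv']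
    rcases Cert.seed_cases _ hs with ⟨he, hmem⟩ | hz
    · simp only [] at he hmem
      have hv : wv ga gb gc gd wd = 1 := by
        rcases List.mem_append.mp hmem with h | h
        · exact S.exact wd h
        · exact wv_pair ga gb gc gd wd h
      change (wv ga gb gc gd wd)⁻¹ • q = _
      rw [hv, he, ltw_replicate_zero, inv_one, one_smul, one_smul]
    · simp only [Cert.symL, Cert.unitL, List.zip_cons_cons, List.zip_nil_right, List.mem_cons,
        Prod.mk.injEq, List.not_mem_nil, or_false] at hz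
      have key : ∀ wd' (hwd : wd' ∈ Cert.symL ++ Cert.cenL) (e : List ℤ),
          ltw (ζs ga gb gc gd A) e = ρA ga gb gc gd A wd' → wd = wd' → Cert.Ev w = e →
          ((List.map (gl ga gb gc gd) wd).prod)⁻¹ • q = ltw (ζs ga gb gc gd A) (Cert.Ev w) • q := by
        intro wd' hwd e he hw1 hw2
        rw [hw2, he, hw1]
        change _ = ((ρA ga gb gc gd A wd' : A) : Γ) • q
        rw [ρA_coe wd' (S.rel wd' hwd)]
        rfl
      rcases hz with ⟨a, b⟩ | ⟨a, b⟩ | ⟨a, b⟩ | ⟨a, b⟩
      · exact key _ (by decide) _ (by simp [ζs, Cert.symL, ltw]) a b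
      · exact key _ (by decide) _ (by simp [ζs, Cert.symL, ltw]) a b
      · exact key _ (by decide) _ (by simp [ζs, Cert.symL, ltw]) a b
      · exact key _ (by decide) _ (by simp [ζs, Cert.symL, ltw]) a b
  · have hsub := h2 hr
    rw [act_inv']
    have hmem : (List.map (gl ga gb gc gd) wd).prod ∈ Subgroup.closure {ga, gb, gc} := by
      simp only [Cert.subL, List.mem_cons, List.not_mem_nil, or_false] at hsub
      rcases hsub with rfl | rfl | rfl
      · simp only [List.map_cons, List.map_nil, List.prod_cons, List.prod_nil, mul_one, gl]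
        exact Subgroup.subset_closure (by simp)
      · simp only [List.map_cons, List.map_nil, List.prod_cons, List.prod_nil, mul_one, gl]
        exact Subgroup.subset_closure (by simp)
      · simp only [List.map_cons, List.map_nil, List.prod_cons, List.prod_nil, mul_one, gl]
        exact Subgroup.subset_closure (by simp)
    rw [MulAction.Quotient.smul_mk, QuotientGroup.eq]
    simpa using hmem

end main

section final

variable {Γ : Type*} [Group Γ] {ga gb gc gd : Γ} {A : Subgroup Γ}

/-- **Main theorem of the certificate.** -/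
theorem mono_main (S : Setting ga gb gc gd A) :
    Finite (Γ ⧸ Subgroup.closure {ga, gb, gc}) ∧ Nat.card (Γ ⧸ Subgroup.closure {ga, gb, gc}) ≤ 275 := by
  let _ := commGroupOfCentral A S.central
  have := smulComm S
  set Q := Γ ⧸ Subgroup.closure {ga, gb, gc} with hQ
  set q0 : Q := ((1 : Γ) : Q) with hq0
  set tw : List ℤ → A := ltw (ζs ga gb gc gd A) with htw_def
  set γ : ℕ → Γ := fun x => (gl ga gb gc gd x)⁻¹ with hγ
  have htw : TwOK ladd (List.replicate 4 0) leq tw := ltw_ok _ 4
  have hfree : ∀ (α β : A) (q : Q), α • q = β • q → α = β := free_of_setting S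
  have hw := wordsOK S
  have hI := Cert.run tw γ hfree htw q0 hw
  obtain ⟨c, hc0, hwords, hcov⟩ := covered Cert.F Cert.Ev 8 65536 tw γ q0 Cert.words 2200 275 107
    hI Cert.rows Cert.rows_ok Cert.rows_length (gens_top S) letters_inv
  -- the relations
  have hrel : ∀ p ∈ Cert.relPairs, tw p.2.2 = 1 := by
    intro p hp
    have hchk := Cert.rel_chk p hp
    unfold Cert.relChk at hchk
    rcases h1 : WT.get Cert.words p.1 with _ | ⟨wd1, r1⟩
    · rw [h1] at hchk; exact absurd hchk (by simp)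
    · rcases h2 : WT.get Cert.words p.2.1 with _ | ⟨wd2, r2⟩
      · rw [h1, h2] at hchk
        cases r1 <;> exact absurd hchk (by simp)
      · rw [h1, h2] at hchk
        cases r1 with
        | false => exact absurd hchk (by simp)
        | true =>
          cases r2 with
          | false => exact absurd hchk (by simp)
          | true =>
            simp only [Bool.and_eq_true, decide_eq_true_eq] at hchk
            obtain ⟨⟨⟨hwd, hev⟩, hlt1⟩, hlt2⟩ := hchk
            subst hwd
            have e1 := hwords p.1 hlt1 wd1 h1 q0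
            have e2 := hwords p.2.1 hlt2 wd1 h2 q0
            have e3 : tw (Cert.Ev p.1) = tw (Cert.Ev p.2.1) := hfree _ _ q0 (e1.symm.trans e2)
            rw [hev, htw.add] at e3
            exact (mul_eq_left.mp e3.symm)
  -- the algebra
  have hζ : ζs ga gb gc gd A = [ρA ga gb gc gd A [0, 3, 4, 3, 7, 3, 0, 5, 3, 6, 6, 4, 2, 4],
      ρA ga gb gc gd A [0, 0, 4, 3, 4, 6, 6, 6, 2, 7, 7, 2, 5],
      ρA ga gb gc gd A [0, 2, 2, 1, 4, 1, 6, 3, 1, 6, 5, 3, 3],
      ρA ga gb gc gd A [0, 3, 3, 4, 2, 1, 6, 1, 5, 5, 3, 7, 1, 3]] := rfl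
  have hR : ∀ v ∈ Cert.relPairs.map (fun p => p.2.2), tw v = 1 := by
    intro v hv
    obtain ⟨p, hp, rfl⟩ := List.mem_map.mp hv
    exact hrel p hp
  rw [htw_def, hζ] at hR
  obtain ⟨hz0, hz1, hz2, hz3, -⟩ := Cert.rel_alg _ _ _ _
    (hR _ (by decide))
    (hR _ (by decide))
    (hR _ (by decide))
    (hR _ (by decide))
    (hR _ (by decide))
  have hm0 : ρA ga gb gc gd A [0, 3, 4, 3, 7, 3, 0, 5, 3, 6, 6, 4, 2, 4] = 1 := by simpa [ltw] using hz0
  have hm1 : ρA ga gb gc gd A [0, 0, 4, 3, 4, 6, 6, 6, 2, 7, 7, 2, 5] = 1 := by simpa [ltw] using hz1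
  have hm2 : ρA ga gb gc gd A [0, 2, 2, 1, 4, 1, 6, 3, 1, 6, 5, 3, 3] = 1 := by simpa [ltw] using hz2
  have hm3 : ρA ga gb gc gd A [0, 3, 3, 4, 2, 1, 6, 1, 5, 5, 3, 7, 1, 3] = 1 := by simpa [ltw] using hz3
  have hpow : ∀ a ∈ Subgroup.closure (Set.range tw), a = 1 := by
    intro a ha
    have hle : Subgroup.closure (Set.range tw) ≤ ⊥ := by
      rw [Subgroup.closure_le]
      rintro _ ⟨t, rfl⟩
      have := ltw_mem_closure (ζs ga gb gc gd A) t
      refine (Subgroup.closure_le _).mpr ?_ this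
      intro b hb
      rw [hζ] at hb
      simp only [List.mem_cons, List.not_mem_nil, or_false, Set.mem_ofPred_eq] at hb
      rcases hb with rfl | rfl | rfl | rfl
      · rw [hm0]; exact Subgroup.mem_bot.mpr rfl
      · rw [hm1]; exact Subgroup.mem_bot.mpr rfl
      · rw [hm2]; exact Subgroup.mem_bot.mpr rfl
      · rw [hm3]; exact Subgroup.mem_bot.mpr rfl
    exact (Subgroup.mem_bot.mp (hle ha))
  let f : Fin 275 → Q := fun p => c p
  have hf : Function.Surjective f := by
    intro q
    obtain ⟨i, hi, α, hα, rfl⟩ := hcov q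
    rw [hpow α hα, one_smul]
    exact ⟨⟨i, hi⟩, rfl⟩
  have hfinQ : Finite Q := Finite.of_surjective f hf
  refine ⟨hfinQ, ?_⟩
  have hcard := Nat.card_le_card_of_surjective f hf
  rwa [Nat.card_fin] at hcard

end final

end Cfsg.Agent.Lib.H6.McLM
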