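import Cfsg.Agent.Lib.H6.McLM.Fusion
import Cfsg.Agent.Lib.H9.McLMRESTRICT
import Cfsg.Agent.Lib.H9.McLMCONJ
import Cfsg.Agent.Lib.H2.McLMCORE4

set_option autoImplicit false
set_option maxRecDepth 100000

/-!
# Finite stem extensions of a group with the McLaughlin data (helper6, S2047)

The kernel of every finite stem extension of a group `G` with the data `Base4` is generated by one element `w` with
`w ^ 3 = 1`.  (RESTRICT and CONJ are helper9's pieces, CORE4 is helper2's piece; the pattern of the lifting argument is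
helper17's `Lib/H17/L34M/Stem2.lean`.)
-/

namespace Cfsg.Agent.Lib.H6.McLM

open Subgroup
open Cfsg.Agent.Lib.H17.M22M (pow_card_eq_one exists_lift_pow conj_eq_pow closure_lift_eq_top)

section general

variable {K : Type*} [Group K]

theorem comm_central_left (z x y : K) (hz : ∀ t : K, t * z = z * t) :
    (z * x) * y * (z * x)⁻¹ * y⁻¹ = x * y * x⁻¹ * y⁻¹ := by
  calc (z * x) * y * (z * x)⁻¹ * y⁻¹ = z * (x * y * x⁻¹) * z⁻¹ * y⁻¹ := by group
    _ = (x * y * x⁻¹) * z * z⁻¹ * y⁻¹ := by rw [hz (x * y * x⁻¹)]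
    _ = x * y * x⁻¹ * y⁻¹ := by group

theorem comm_central_right (z x y : K) (hz : ∀ t : K, t * z = z * t) :
    x * (z * y) * x⁻¹ * (z * y)⁻¹ = x * y * x⁻¹ * y⁻¹ := by
  calc x * (z * y) * x⁻¹ * (z * y)⁻¹ = (x * z) * (y * x⁻¹ * y⁻¹) * z⁻¹ := by group
    _ = (z * x) * (y * x⁻¹ * y⁻¹) * z⁻¹ := by rw [hz x]
    _ = z * (x * y * x⁻¹ * y⁻¹) * z⁻¹ := by group
    _ = (x * y * x⁻¹ * y⁻¹) * z * z⁻¹ := by rw [hz (x * y * x⁻¹ * y⁻¹)]
    _ = x * y * x⁻¹ * y⁻¹ := by group

/-- conjugation by `d` maps `U V` to `U' V'` up to central elements, and the commutator of `U V` is central: the two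
commutators are equal -/
theorem comm_conj_eq (d U V U' V' : K) (hu : d⁻¹ * U * d * U'⁻¹ ∈ center K)
    (hv : d⁻¹ * V * d * V'⁻¹ ∈ center K) (hc : U * V * U⁻¹ * V⁻¹ ∈ center K) :
    U * V * U⁻¹ * V⁻¹ = U' * V' * U'⁻¹ * V'⁻¹ := by
  set zu := d⁻¹ * U * d * U'⁻¹ with hzu
  set zv := d⁻¹ * V * d * V'⁻¹ with hzv
  have e1 : d⁻¹ * U * d = zu * U' := by rw [hzu]; group
  have e2 : d⁻¹ * V * d = zv * V' := by rw [hzv]; group
  have cu : ∀ x : K, x * zu = zu * x := fun x => mem_center_iff.1 hu x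
  have cv : ∀ x : K, x * zv = zv * x := fun x => mem_center_iff.1 hv x
  have cc : ∀ x : K, x * (U * V * U⁻¹ * V⁻¹) = (U * V * U⁻¹ * V⁻¹) * x := fun x => mem_center_iff.1 hc x
  have h1 : d⁻¹ * (U * V * U⁻¹ * V⁻¹) * d = U * V * U⁻¹ * V⁻¹ := by
    rw [cc d⁻¹, mul_assoc, inv_mul_cancel, mul_one]
  have h2 : d⁻¹ * (U * V * U⁻¹ * V⁻¹) * d =
      (d⁻¹ * U * d) * (d⁻¹ * V * d) * (d⁻¹ * U * d)⁻¹ * (d⁻¹ * V * d)⁻¹ := by group
  rw [← h1, h2, e1, e2, comm_central_left zu U' (zv * V') cu, comm_central_right zv U' V' cv]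

theorem index_zpowers_mul {g : K} {p n : ℕ} (hK : Nat.card K = n) (hp : p.Prime) (h1 : g ^ p = 1)
    (h2 : g ≠ 1) : (zpowers g).index * p = n := by
  have ho : orderOf g = p := by
    have := orderOf_dvd_of_pow_eq_one h1
    rcases (Nat.dvd_prime hp).1 this with h | h
    · exact absurd (orderOf_eq_one_iff.1 h) h2
    · exact h
  have := Subgroup.index_mul_card (zpowers g)
  rw [Nat.card_zpowers, ho, hK] at this
  exact this

end general

variable {G : Type} [Group G] {am bm cm dm : G}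

theorem Base4.a7 (B : Base4 am bm cm dm) : am ^ 7 = 1 :=
  ((U43M.exact1_iff am bm).1 (fun w hw => B.rel1 w (List.mem_append_left _ hw))).1

/-- the kernel of a finite stem extension has exponent dividing `11664000 = 2^7 * 3^6 * 5^3` -/
theorem Base4.ker_pow (B : Base4 am bm cm dm) {Γ : Type*} [Group Γ] [Finite Γ] (σ : Γ →* G)
    (hσ : Cfsg.IsStemExtension σ) : ∀ z ∈ σ.ker, z ^ 11664000 = 1 := by
  intro z hz
  have h1 : z ^ 898128000 = 1 := by rw [← B.card]; exact pow_card_eq_one σ hσ hz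
  set w := z ^ 11664000 with hw
  have hwk : w ∈ σ.ker := pow_mem hz _
  have hw77 : w ^ 77 = 1 := by rw [hw, ← pow_mul]; exact h1
  have i7 : (zpowers am).index = 128304000 := by
    have := index_zpowers_mul B.card (by norm_num : Nat.Prime 7) B.a7 B.a_ne
    omega
  have i11 : (zpowers dm).index = 81648000 := by
    have := index_zpowers_mul B.card (by norm_num : Nat.Prime 11) B.d11 B.d_ne
    omega
  have h7 : w ^ 11 = 1 :=
    Cfsg.Agent.Lib.H28.StemTools.eq_one_of_cyclic σ hσ am (pow_mem hwk 11) (n := 7)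
      (by rw [← pow_mul]; exact hw77) (by rw [i7]; norm_num)
  have h11 : w ^ 7 = 1 :=
    Cfsg.Agent.Lib.H28.StemTools.eq_one_of_cyclic σ hσ dm (pow_mem hwk 7) (n := 11)
      (by rw [← pow_mul]; exact hw77) (by rw [i11]; norm_num)
  have d1 := orderOf_dvd_of_pow_eq_one h7
  have d2 := orderOf_dvd_of_pow_eq_one h11
  have d5 : orderOf w ∣ Nat.gcd 11 7 := Nat.dvd_gcd d1 d2
  have d6 : Nat.gcd 11 7 = 1 := by norm_num
  rw [d6] at d5
  exact orderOf_eq_one_iff.1 (Nat.dvd_one.1 d5)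

/-- the words of `H` in `G` -/
theorem coe_wvH (w : List ℕ) :
    ((U43M.wv (aH am bm cm) (bH am bm cm) (cH am bm cm) w : ↥(HS am bm cm)) : G) = U43M.wv am bm cm w :=
  U43M.map_wv (HS am bm cm).subtype (aH am bm cm) (bH am bm cm) (cH am bm cm) w

theorem wvH_eq_one (w : List ℕ) (h : U43M.wv am bm cm w = 1) :
    U43M.wv (aH am bm cm) (bH am bm cm) (cH am bm cm) w = 1 :=
  Subtype.ext (by rw [coe_wvH, h]; rfl)

/-- `H` is perfect -/
theorem perfectH (BH : U43M.Base (aH am bm cm) (bH am bm cm) (cH am bm cm)) :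
    commutator ↥(HS am bm cm) = ⊤ := by
  obtain ⟨h1, h2, h3⟩ := U43M.mem_commutator_of_exact (aH am bm cm) (bH am bm cm) (cH am bm cm)
    BH.exact1 BH.exact2
  rw [eq_top_iff, ← BH.gen, closure_le]
  intro g hg
  simp only [Set.mem_insert_iff, Set.mem_singleton_iff] at hg
  rcases hg with rfl | rfl | rfl
  · exact h1
  · exact h2
  · exact h3

/-- the kernel of a finite stem extension is generated by an element `w` with `w ^ 3 = 1` -/
theorem Base4.stem (B : Base4 am bm cm dm)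
    (BH : U43M.Base (aH am bm cm) (bH am bm cm) (cH am bm cm))
    {Γ : Type*} [Group Γ] [Finite Γ] (σ : Γ →* G) (hσ : Cfsg.IsStemExtension σ) :
    ∃ w : Γ, w ^ 3 = 1 ∧ σ.ker = zpowers w := by
  have hN := B.ker_pow σ hσ
  have hfinG := B.finite
  obtain ⟨L, τ, hτ, hτσ⟩ := Cfsg.Agent.Lib.H9.McLM.stem_restrict σ hσ (HS am bm cm) (perfectH BH)
  obtain ⟨hs, hc, hd⟩ := hσ
  obtain ⟨a0, b0, c0, ha0, hb0, hc0, hex0, -⟩ := BH.stem_lifts τ hτ
  -- the lifts of the first three generators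
  have ha : σ (a0 : Γ) = am := by rw [← hτσ a0, ha0]; rfl
  have hb : σ (b0 : Γ) = bm := by rw [← hτσ b0, hb0]; rfl
  have hc' : σ (c0 : Γ) = cm := by rw [← hτσ c0, hc0]; rfl
  set a : Γ := (a0 : Γ) with haa
  set b : Γ := (b0 : Γ) with hbb
  set c : Γ := (c0 : Γ) with hcc
  have hcoe : ∀ w : List ℕ, ((U43M.wv a0 b0 c0 w : ↥L) : Γ) = U43M.wv a b c w :=
    fun w => U43M.map_wv L.subtype a0 b0 c0 w
  have hexP : ∀ w ∈ U43M.Cert.exactL ++ U43M.s1L, U43M.wv a b c w = 1 := by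
    intro w hw
    rw [← hcoe w, hex0 w hw]
    rfl
  have hσ3 : ∀ w : List ℕ, σ (U43M.wv a b c w) = U43M.wv am bm cm w := by
    intro w
    rw [U43M.map_wv, ha, hb, hc']
  have hcenP : ∀ w ∈ U43M.Cert.symL ++ U43M.Cert.cenL, ∀ i : Fin 3,
      U43M.wv a b c w * ![a, b, c] i = ![a, b, c] i * U43M.wv a b c w := by
    intro w hw i
    have hk : U43M.wv a b c w ∈ σ.ker := by
      rw [MonoidHom.mem_ker, hσ3]
      exact B.rel2 w (List.mem_append_right _ hw)
    exact ((mem_center_iff.1 (hc hk)) _).symm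
  -- the lift of the fourth generator
  obtain ⟨d, hd', hd11⟩ := exists_lift_pow σ hs hN (by norm_num : Nat.Coprime 11 11664000) B.d11
  have hσ4 : ∀ w : List ℕ, σ (wv a b c d w) = wv am bm cm dm w := by
    intro w
    rw [map_wv, ha, hb, hc', hd']
  have hfrob : wv a b c d weL * d * (wv a b c d weL)⁻¹ = d ^ 3 :=
    conj_eq_pow σ hc hN (by norm_num : Nat.Coprime 11 11664000) hd11
      (by rw [map_mul, map_mul, map_inv, map_pow, hσ4, hd']; exact B.frob)
  -- the subgroup `Z₀`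
  obtain ⟨h12, h3, hmem⟩ := BH.mem_of_map_eq_one (HS am bm cm).subtype (HS am bm cm).subtype_injective
    σ a b c ha hb hc' hexP hcenP
  set X : Γ := (U43M.wv a b c U43M.xW)⁻¹ with hX
  set W : Γ := (U43M.wv a b c U43M.yW)⁻¹ with hW
  set Z₀ : Subgroup Γ := closure {X, W} with hZ₀
  have hXk : X ∈ σ.ker := by
    rw [MonoidHom.mem_ker, hX, map_inv, hσ3, B.rel2 U43M.xW (by decide), inv_one]
  have hWk : W ∈ σ.ker := by
    rw [MonoidHom.mem_ker, hW, map_inv, hσ3, B.rel2 U43M.yW (by decide), inv_one]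
  have hZker : Z₀ ≤ σ.ker := by
    rw [hZ₀, closure_le]
    intro g hg
    simp only [Set.mem_insert_iff, Set.mem_singleton_iff] at hg
    rcases hg with rfl | rfl
    · exact hXk
    · exact hWk
  have hZ : Z₀ ≤ σ.ker ⊓ center Γ := le_inf hZker (hZker.trans hc)
  have h3mem : ∀ w : List ℕ, U43M.wv a b c w ∈ closure ({a, b, c} : Set Γ) := fun w => wv3_mem a b c w
  -- the exact relators of stage 3 hold modulo `Z₀`
  have hex4 : ∀ w ∈ Cert.exactL, wv a b c d w ∈ Z₀ := by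
    intro w hw
    rcases exact_cases w hw with h | rfl | rfl | ⟨p, hp, rfl⟩
    · rw [wv_eq_wv3 a b c d w h]
      apply hmem _ (h3mem w)
      rw [hσ3, ← wv_eq_wv3 am bm cm dm w h]
      exact B.exact3 w hw
    · rw [wv_replicate6, hd11]
      exact one_mem _
    · rw [(frob_iff a b c d).2 hfrob]
      exact one_mem _
    · obtain ⟨hl1, hl2⟩ := cjL_lt p (List.mem_append_left _ hp)
      rw [cjW_val, wv_eq_wv3 a b c d p.1 hl1, wv_eq_wv3 a b c d p.2 hl2]
      have hG : dm⁻¹ * U43M.wv am bm cm p.1 * dm * (U43M.wv am bm cm p.2)⁻¹ = 1 := by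
        have := B.exact3 (cjW p) hw
        rwa [cjW_val, wv_eq_wv3 am bm cm dm p.1 hl1, wv_eq_wv3 am bm cm dm p.2 hl2] at this
      have hG2 : U43M.wv am bm cm p.2 = dm⁻¹ * U43M.wv am bm cm p.1 * dm := (mul_inv_eq_one.1 hG).symm
      apply Cfsg.Agent.Lib.H9.McLM.conj_mem σ hc Z₀ hZker hN (by norm_num : Nat.Coprime 7 11664000)
      · apply hmem _ (pow_mem (h3mem _) 7)
        rw [map_pow, hσ3]
        exact B.ord7 p hp
      · apply hmem _ (pow_mem (h3mem _) 7)
        rw [map_pow, hσ3, hG2]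
        have e : dm⁻¹ * U43M.wv am bm cm p.1 * dm = dm⁻¹ * U43M.wv am bm cm p.1 * dm⁻¹⁻¹ := by
          rw [inv_inv]
        rw [e, conj_pow, B.ord7 p hp, mul_one, mul_inv_cancel]
      · rw [map_mul, map_mul, map_inv, hσ3, hσ3, hd', hG2]
  have hcen4 : ∀ w ∈ Cert.symL ++ Cert.cenL, wv a b c d w ∈ σ.ker ⊓ center Γ := by
    intro w hw
    have hk : wv a b c d w ∈ σ.ker := by
      rw [MonoidHom.mem_ker, hσ4]
      exact B.rel3 w (List.mem_append_right _ hw)
    exact ⟨hk, hc hk⟩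
  have hgen : closure ({a, b, c, d} : Set Γ) = ⊤ :=
    closure_lift_eq_top σ hc hd {a, b, c, d} (by
      rw [Set.image_insert_eq, Set.image_insert_eq, Set.image_insert_eq, Set.image_singleton,
        ha, hb, hc', hd']
      exact B.gen)
  have hH : Nat.card (closure ({σ a, σ b, σ c} : Set G)) = 3265920 := by
    rw [ha, hb, hc']
    exact BH.card
  obtain ⟨-, hker⟩ := Cfsg.Agent.Lib.H2.McLM.core4 σ hs B.card a b c d Z₀ hZ hH hmem hex4 hcen4 hgen
  -- the fusion relations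
  have hfus : ∀ u v u' v' : List ℕ, (u, u') ∈ fusL → (v, v') ∈ fusL →
      (∀ x ∈ commW u v, x < 6) → (∀ x ∈ commW u' v', x < 6) →
      wv am bm cm dm (commW u v) = 1 →
      U43M.wv a b c (commW u v) = U43M.wv a b c (commW u' v') ∧
        U43M.wv am bm cm (commW u v) = 1 ∧ U43M.wv am bm cm (commW u' v') = 1 := by
    intro u v u' v' hu hv hl hl' hcomm
    have hk : ∀ p ∈ fusL, d⁻¹ * wv a b c d p.1 * d * (wv a b c d p.2)⁻¹ ∈ center Γ := by
      intro p hp
      apply hc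
      rw [MonoidHom.mem_ker, ← cjW_val, hσ4]
      exact B.fus p hp
    have hkc : wv a b c d u * wv a b c d v * (wv a b c d u)⁻¹ * (wv a b c d v)⁻¹ ∈ center Γ := by
      apply hc
      rw [MonoidHom.mem_ker, ← commW_val, hσ4]
      exact hcomm
    have e1 := comm_conj_eq d _ _ _ _ (hk (u, u') hu) (hk (v, v') hv) hkc
    rw [← commW_val, ← commW_val, wv_eq_wv3 a b c d _ hl, wv_eq_wv3 a b c d _ hl'] at e1
    have hkG : ∀ p ∈ fusL, dm⁻¹ * wv am bm cm dm p.1 * dm * (wv am bm cm dm p.2)⁻¹ ∈ center G := by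
      intro p hp
      rw [← cjW_val, B.fus p hp]
      exact one_mem _
    have hkcG : wv am bm cm dm u * wv am bm cm dm v * (wv am bm cm dm u)⁻¹ * (wv am bm cm dm v)⁻¹ ∈
        center G := by
      rw [← commW_val, hcomm]
      exact one_mem _
    have e2 := comm_conj_eq dm _ _ _ _ (hkG (u, u') hu) (hkG (v, v') hv) hkcG
    rw [← commW_val, ← commW_val, hcomm] at e2
    refine ⟨e1, ?_, ?_⟩
    · rw [← wv_eq_wv3 am bm cm dm _ hl]
      exact hcomm
    · rw [← wv_eq_wv3 am bm cm dm _ hl']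
      exact e2.symm
  have hval : ∀ w : List ℕ, (∀ x ∈ w, x < 6) → U43M.wv am bm cm w = 1 → ∀ e1 e2 t : ℕ,
      (e2 : ZMod 12) = 4 * (t : ZMod 12) →
      Cfsg.Agent.Lib.H17.MonoModel.checkWordM (w.map U43M.Model1.tabs) e1 540 = true →
      Cfsg.Agent.Lib.H17.MonoModel.checkWordM (w.map U43M.Model2.tabs) e2 540 = true →
      (U43M.wv a b c w)⁻¹ = X ^ e1 * W ^ t :=
    fun w hw hG e1 e2 t he h1 h2 =>
      word_val BH a b c hexP hcenP w hw (wvH_eq_one w hG) e1 e2 t he h1 h2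
  have hX9 : X ^ 9 = 1 := by
    obtain ⟨e, g1, g2⟩ := hfus fu1 fv1 fu1' fv1' (by decide) (by decide)
      (fcomm_lt _ (by decide)) (fcomm_lt _ (by decide)) B.fcomm1
    have v1 := hval _ (fcomm_lt _ (by decide)) g1 0 0 0 (by decide) f1_chk1 f1_chk2
    have v2 := hval _ (fcomm_lt _ (by decide)) g2 9 0 0 (by decide) f1'_chk1 f1'_chk2
    rw [e, v2] at v1
    simpa using v1
  have hX4 : X ^ 4 = 1 := by
    obtain ⟨e, g1, g2⟩ := hfus fu2 fv2 fu2' fv2' (by decide) (by decide)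
      (fcomm_lt _ (by decide)) (fcomm_lt _ (by decide)) B.fcomm2
    have v1 := hval _ (fcomm_lt _ (by decide)) g1 8 0 0 (by decide) f2_chk1 f2_chk2
    have v2 := hval _ (fcomm_lt _ (by decide)) g2 4 0 0 (by decide) f2'_chk1 f2'_chk2
    rw [e, v2] at v1
    simp only [pow_zero, mul_one] at v1
    have : X ^ 8 = X ^ 4 * X ^ 4 := by rw [← pow_add]
    rw [this] at v1
    exact (mul_eq_left.1 v1.symm)
  have hX1 : X = 1 := by
    have : X ^ 9 = X ^ 4 * X ^ 4 * X := by rw [← pow_add, ← pow_succ]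
    rw [this, hX4, one_mul, one_mul] at hX9
    exact hX9
  refine ⟨W, h3, ?_⟩
  rw [hker, hZ₀, hX1, zpowers_eq_closure]
  apply le_antisymm
  · rw [closure_le]
    intro g hg
    simp only [Set.mem_insert_iff, Set.mem_singleton_iff] at hg
    rcases hg with rfl | rfl
    · exact one_mem _
    · exact subset_closure rfl
  · exact closure_mono (by simp)

end Cfsg.Agent.Lib.H6.McLM
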