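import Cfsg.Agent.Lib.H6.McLM.Glue
import Cfsg.Agent.Lib.H6.U43M.Core

set_option autoImplicit false
set_option maxRecDepth 100000

/-!
# Words in the eight letters for the McLaughlin group (helper6, S2047)

Utilities for `wv`, the shapes of the exact relators of the stage 3 certificate (words in the first three
generators, `d ^ 11`, the relator `e d e⁻¹ = d ^ 3`, and the relators `d⁻¹ u d = u'` with `u` of order `7`), and the
words of the two fusion relations.
-/

namespace Cfsg.Agent.Lib.H6.McLM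

open Subgroup

section words

variable {K : Type*} [Group K]

theorem map_gl {L : Type*} [Group L] (f : K →* L) (x y z t : K) (i : ℕ) :
    f (gl x y z t i) = gl (f x) (f y) (f z) (f t) i := by
  unfold gl
  split <;> simp

theorem map_wv {L : Type*} [Group L] (f : K →* L) (x y z t : K) (w : List ℕ) :
    f (wv x y z t w) = wv (f x) (f y) (f z) (f t) w := by
  unfold wv
  rw [map_list_prod, List.map_map]
  congr 1
  apply List.map_congr_left
  intro i _
  exact map_gl f x y z t i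

theorem wv_nil (x y z t : K) : wv x y z t [] = 1 := rfl

theorem wv_cons (x y z t : K) (i : ℕ) (w : List ℕ) :
    wv x y z t (i :: w) = gl x y z t i * wv x y z t w := by
  unfold wv
  rw [List.map_cons, List.prod_cons]

theorem wv_append (x y z t : K) (u v : List ℕ) :
    wv x y z t (u ++ v) = wv x y z t u * wv x y z t v := by
  unfold wv
  rw [List.map_append, List.prod_append]

/-- a word in the first three generators -/
theorem wv_eq_wv3 (x y z t : K) (w : List ℕ) (h : ∀ i ∈ w, i < 6) :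
    wv x y z t w = U43M.wv x y z w := by
  unfold wv U43M.wv
  congr 1
  apply List.map_congr_left
  intro i hi
  have := h i hi
  interval_cases i <;> rfl

theorem wv_replicate6 (x y z t : K) (n : ℕ) : wv x y z t (List.replicate n 6) = t ^ n := by
  unfold wv
  rw [List.map_replicate, List.prod_replicate]
  rfl

theorem wv_replicate7 (x y z t : K) (n : ℕ) : wv x y z t (List.replicate n 7) = t⁻¹ ^ n := by
  unfold wv
  rw [List.map_replicate, List.prod_replicate]
  rfl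

theorem gl_mem (x y z t : K) (i : ℕ) : gl x y z t i ∈ closure ({x, y, z, t} : Set K) := by
  have hx : x ∈ closure ({x, y, z, t} : Set K) := subset_closure (by simp)
  have hy : y ∈ closure ({x, y, z, t} : Set K) := subset_closure (by simp)
  have hz : z ∈ closure ({x, y, z, t} : Set K) := subset_closure (by simp)
  have ht : t ∈ closure ({x, y, z, t} : Set K) := subset_closure (by simp)
  unfold gl
  split
  · exact hx
  · exact inv_mem hx
  · exact hy
  · exact inv_mem hy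
  · exact hz
  · exact inv_mem hz
  · exact ht
  · exact inv_mem ht
  · exact one_mem _

theorem wv_mem (x y z t : K) (w : List ℕ) : wv x y z t w ∈ closure ({x, y, z, t} : Set K) := by
  unfold wv
  apply list_prod_mem
  intro g hg
  obtain ⟨i, -, rfl⟩ := List.mem_map.1 hg
  exact gl_mem x y z t i

theorem wv3_mem (x y z : K) (w : List ℕ) : U43M.wv x y z w ∈ closure ({x, y, z} : Set K) := by
  unfold U43M.wv
  apply list_prod_mem
  intro g hg
  obtain ⟨i, -, rfl⟩ := List.mem_map.1 hg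
  have hx : x ∈ closure ({x, y, z} : Set K) := subset_closure (by simp)
  have hy : y ∈ closure ({x, y, z} : Set K) := subset_closure (by simp)
  have hz : z ∈ closure ({x, y, z} : Set K) := subset_closure (by simp)
  unfold U43M.gl
  split
  · exact hx
  · exact inv_mem hx
  · exact hy
  · exact inv_mem hy
  · exact hz
  · exact inv_mem hz
  · exact one_mem _

/-- the inverse letter -/
def flip8 (x : ℕ) : ℕ :=
  match x with
  | 0 => 1 | 1 => 0 | 2 => 3 | 3 => 2 | 4 => 5 | 5 => 4 | 6 => 7 | 7 => 6 | k => k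

/-- the inverse word -/
def invW8 (w : List ℕ) : List ℕ := (w.map flip8).reverse

theorem gl_ge (x y z t : K) (i : ℕ) (h : 8 ≤ i) : gl x y z t i = 1 := by
  unfold gl
  split <;> first | omega | rfl

theorem flip8_ge (i : ℕ) (h : 8 ≤ i) : flip8 i = i := by
  unfold flip8
  split <;> omega

theorem gl_flip8 (x y z t : K) (i : ℕ) : gl x y z t (flip8 i) = (gl x y z t i)⁻¹ := by
  by_cases h : i < 8
  · interval_cases i <;> simp [flip8, gl]
  · rw [flip8_ge i (by omega), gl_ge x y z t i (by omega), inv_one]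

theorem wv_invW8 (x y z t : K) (w : List ℕ) : wv x y z t (invW8 w) = (wv x y z t w)⁻¹ := by
  induction w with
  | nil => simp [invW8, wv]
  | cons i w ih =>
    have h1 : invW8 (i :: w) = invW8 w ++ [flip8 i] := by
      unfold invW8
      rw [List.map_cons, List.reverse_cons]
    rw [h1, wv_append, ih, wv_cons x y z t i w, mul_inv_rev]
    congr 1
    rw [wv_cons, wv_nil, mul_one, gl_flip8]

end words

/-- the word of the element `e` with `e d e⁻¹ = d ^ 3` -/
def weL : List ℕ := [3, 1, 1, 3, 1, 3, 1, 4, 4, 3, 4]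

/-- the relator `e d e⁻¹ d⁻³` -/
def frobW : List ℕ := weL ++ [6] ++ invW8 weL ++ [7, 7, 7]

/-- the relator `d⁻¹ u d u'⁻¹` -/
def cjW (p : List ℕ × List ℕ) : List ℕ := 7 :: p.1 ++ 6 :: invW8 p.2

/-- the pairs `(u, u')` of words in the first three generators, `u` of order `7`, with `d⁻¹ u d = u'` -/
def cjL : List (List ℕ × List ℕ) := [([0, 0, 4, 3, 0, 5], [1, 3, 3, 4, 1, 4, 2, 5]), ([1, 1, 5, 1, 3, 5, 5], [3, 4, 4, 0, 3, 0, 0]), ([2, 0, 3, 3, 0, 3, 0], [0, 4, 0, 2, 0, 2, 2, 1]), ([2, 1, 2, 4, 0, 5, 0], [3, 3, 4, 3, 5, 2, 4, 3]), ([2, 1, 3, 0, 4, 2, 1], [3, 5, 0, 5, 2, 2, 2]), ([2, 4, 3, 0, 4, 4, 1], [2, 4, 2, 1, 1, 4]), ([2, 5, 1, 3, 4, 4, 0], [3, 3, 4, 4, 1, 2, 5]), ([3, 4, 1, 3, 1, 5, 5], [4, 2, 5, 0, 3, 4, 2]), ([4, 2, 5, 2, 1, 2, 0], [4, 4, 1, 1, 3, 1, 1, 5]), ([4, 3, 3, 5, 5, 2, 5], [0, 3, 0, 3, 1, 1, 1]), ([4, 3, 4, 4, 2, 2, 5], [0, 0, 0, 2, 1, 2, 1]), ([4, 4, 0, 2, 0, 5, 2], [3, 5, 2, 1, 4, 3, 5]), ([4, 4, 0, 2, 1, 5, 3],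 [1, 3, 5, 0, 4, 3, 0, 4]), ([4, 4, 2, 0, 4, 0, 0], [1, 1, 2, 1, 5, 5, 2]), ([5, 0, 4, 1, 5, 3, 0], [1, 5, 5, 3, 0, 2, 5, 1]), ([5, 1, 2, 1, 2, 5, 2], [0, 4, 3, 3, 4, 1, 4, 1]), ([5, 1, 5, 3, 1, 2, 4], [1, 4, 4, 0, 3, 1, 4]), ([5, 5, 0, 3, 0, 4, 4], [0, 3, 1, 2, 2, 5, 1]), ([0, 2, 1, 3, 3, 3, 5, 0], [0, 3, 3, 0, 3, 5]), ([2, 0, 3, 4, 2, 2, 1, 5], [2, 1, 3, 1, 1, 2]), ([2, 2, 2, 5, 0, 3, 5, 1], [1, 5, 3, 0, 5, 5, 0]), ([3, 4, 1, 1, 5, 1, 4, 4], [1, 3, 0, 3, 0, 5, 0]), ([4, 0, 0, 0, 4, 0, 0, 5], [5, 5, 2, 4, 4, 3, 4]), ([4, 0, 0, 3, 5, 1, 4, 1], [3, 3, 4, 1, 2, 5, 3]), ([4, 0, 3, 3, 5, 2, 1, 3], [3, 0, 0, 2, 0, 3]), ([4, 3, 4, 3, 1, 1, 3, 4], [2, 4, 0, 5, 1, 5, 1]), ([5, 2, 0, 0, 2, 5, 2, 5], [0, 4, 0, 4, 1, 5, 3]), ([5, 5, 2, 5, 5, 1, 5, 2], [5, 2, 1, 4, 0, 5])]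

/-- the commutator word -/
def commW (u v : List ℕ) : List ℕ := u ++ v ++ invW8 u ++ invW8 v

/-- the words of the first fusion relation -/
def fu1 : List ℕ := [4, 0, 3, 5, 0, 2, 4, 4]
/-- the words of the first fusion relation -/
def fv1 : List ℕ := [2, 2, 2, 0, 3, 1, 1, 1]
/-- the words of the first fusion relation -/
def fu1' : List ℕ := [3, 0, 3, 1, 3, 3, 5, 2, 2, 5, 1]
/-- the words of the first fusion relation -/
def fv1' : List ℕ := [4, 3, 5, 0, 3, 1, 4, 1]
/-- the words of the second fusion relation -/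
def fu2 : List ℕ := [3, 3, 0, 2, 2, 1, 3]
/-- the words of the second fusion relation -/
def fv2 : List ℕ := [2, 1, 2, 1, 4, 2, 1]
/-- the words of the second fusion relation -/
def fu2' : List ℕ := [1, 3, 1, 2, 1, 1, 2, 5]
/-- the words of the second fusion relation -/
def fv2' : List ℕ := [4, 4, 3, 3, 1, 1, 2, 5]

/-- the pairs of the fusion relations -/
def fusL : List (List ℕ × List ℕ) := [(fu1, fu1'), (fv1, fv1'), (fu2, fu2'), (fv2, fv2')]

section shapes

variable {K : Type*} [Group K] (x y z t : K)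

theorem frob_iff : wv x y z t frobW = 1 ↔
    wv x y z t weL * t * (wv x y z t weL)⁻¹ = t ^ 3 := by
  have h : wv x y z t frobW = wv x y z t weL * t * (wv x y z t weL)⁻¹ * (t ^ 3)⁻¹ := by
    unfold frobW
    rw [wv_append, wv_append, wv_append, wv_invW8]
    have h1 : wv x y z t [6] = t := by simp [wv, gl]
    have h2 : wv x y z t [7, 7, 7] = (t ^ 3)⁻¹ := by
      have := wv_replicate7 x y z t 3
      rw [inv_pow] at this
      exact this
    rw [h1, h2]
  rw [h, mul_inv_eq_one]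

theorem cjW_val (p : List ℕ × List ℕ) :
    wv x y z t (cjW p) = t⁻¹ * wv x y z t p.1 * t * (wv x y z t p.2)⁻¹ := by
  unfold cjW
  rw [wv_append, wv_cons, wv_cons, wv_invW8]
  have h7 : gl x y z t 7 = t⁻¹ := rfl
  have h6 : gl x y z t 6 = t := rfl
  rw [h7, h6]
  group

theorem commW_val (u v : List ℕ) :
    wv x y z t (commW u v) =
      wv x y z t u * wv x y z t v * (wv x y z t u)⁻¹ * (wv x y z t v)⁻¹ := by
  unfold commW
  rw [wv_append, wv_append, wv_append, wv_invW8, wv_invW8]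

end shapes

theorem exact_cases : ∀ w ∈ Cert.exactL, (∀ i ∈ w, i < 6) ∨ w = List.replicate 11 6 ∨ w = frobW ∨
    ∃ p ∈ cjL, w = cjW p := by
  decide

theorem cjL_lt : ∀ p ∈ cjL ++ fusL, (∀ i ∈ p.1, i < 6) ∧ (∀ i ∈ p.2, i < 6) := by
  decide

theorem cjL_mem : ∀ p ∈ cjL, cjW p ∈ Cert.exactL := by
  decide

theorem weL_lt : ∀ i ∈ weL, i < 6 := by
  decide

theorem invW8_lt (w : List ℕ) (h : ∀ i ∈ w, i < 6) : ∀ i ∈ invW8 w, i < 6 := by
  intro i hi
  unfold invW8 at hi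
  rw [List.mem_reverse, List.mem_map] at hi
  obtain ⟨j, hj, rfl⟩ := hi
  have := h j hj
  interval_cases j <;> decide

end Cfsg.Agent.Lib.H6.McLM
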